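import Cfsg.Agent.Lib.PSUBalance.RealForm

/-!
# Semisimilitudes commuting with the group of a real form

A semilinear unitary map commuting with all the Eichler elements of the real form is a scalar multiple of
the identity or of `J`.
-/

set_option autoImplicit false

namespace Cfsg.Agent.Lib.PSUBalance

open Matrix PSUAut

namespace IsRealForm

variable {F : Type*} [Field F] [Fintype F] {n q : ℕ} (hF : Fintype.card F = q ^ 2)
variable {J : (Fin n → F) → (Fin n → F)} {δ : F} (hJ : IsRealForm (q := q) J δ)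

local notation "V" => (Fin n → F)
local notation "SUT" => (SUType n F q)
local notation "B" => Cfsg.hermForm n F q

include hF hJ

theorem exists_eta : ∃ η : F, η ≠ 0 ∧ η ^ q = δ * η := by
  rcases hJ.delta with h | h
  · exact ⟨1, one_ne_zero, by rw [h, one_pow, one_mul]⟩
  · obtain ⟨ξ, hξ0, hξ⟩ := exists_skew' hF
    exact ⟨ξ, hξ0, by rw [h, neg_one_mul]; exact eq_neg_of_add_eq_zero_right hξ⟩

theorem exists_delta_vec (h2 : (2 : F) ≠ 0) {w : V} (hw : J w = δ • w) : B w w = δ * B w w ∧
    (-(B w w) / 2) ^ q = δ * (-(B w w) / 2) ∧ -(B w w) / 2 + (-(B w w) / 2) ^ q + B w w = 0 := by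
  obtain ⟨η, hη0, hη⟩ := hJ.exists_eta hF
  have hy : J (η • w) = η • w := by
    rw [hJ.map_smul, hη, hw, smul_smul,
      show δ * η * δ = η by linear_combination η * hJ.delta_mul hF]
  have hQ : B w w = δ * B w w := by
    have h1 : B (η • w) (η • w) = δ * B (η • w) (η • w) := hJ.form_symm hF hy hy
    rw [herm_smul_left, smul_right' hF] at h1
    have hne : η * η ^ q ≠ 0 := mul_ne_zero hη0 (pow_ne_zero _ hη0)
    refine mul_left_cancel₀ hne ?_
    linear_combination h1
  have hq : (-(B w w) / 2) ^ q = -(B w w) / 2 := by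
    rw [← Forms.qPowHom_apply hF, map_div₀, _root_.map_neg, map_ofNat, Forms.qPowHom_apply,
      qpow_self hF w]
  refine ⟨hQ, ?_, ?_⟩
  · rw [hq]
    linear_combination (-(1 : F) / 2) * hQ
  · rw [hq]
    field_simp
    ring

/-- An injective semilinear map commuting with the Eichler elements of the real form. -/
theorem scalar_of_commute' (hn : 3 ≤ n) (h2 : (2 : F) ≠ 0) (S : V → V) (τ : F ≃+* F)
    (hSa : ∀ u v, S (u + v) = S u + S v) (hSs : ∀ (a : F) v, S (a • v) = τ a • S v)
    (hSi : ∀ v, S v = 0 → v = 0)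
    (hA : ∀ (e w : V) (c : F), hJ.Iso hF e → B w e = 0 → J w = δ • w → c ^ q = δ * c →
      c + c ^ q + B w w = 0 →
      ∀ x, S (act (eich e w c : SUT) x) = act (eich e w c : SUT) (S x)) :
    ∃ lam : F, (τ = 1 ∧ ∀ v, S v = lam • v) ∨ ((∀ x, τ x = x ^ q) ∧ ∀ v, S v = lam • J v) := by
  obtain ⟨η, hη0, hη⟩ := hJ.exists_eta hF
  obtain ⟨ξ, hξ0, hξ'⟩ := exists_skew' hF
  have hξ : ξ ^ q = -ξ := eq_neg_of_add_eq_zero_right hξ'
  have hδ := hJ.delta_mul hF
  -- the displacement of an Eichler element commutes with the map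
  have hD : ∀ (e w : V) (c : F), hJ.Iso hF e → B w e = 0 → J w = δ • w → c ^ q = δ * c →
      c + c ^ q + B w w = 0 → ∀ x,
      τ (B x e) • S w + τ (c * B x e - B x w) • S e
        = B (S x) e • w + (c * B (S x) e - B (S x) w) • e := by
    intro e w c he hwe hw hcδ hc x
    have h := hA e w c he hwe hw hcδ hc x
    rw [act_eich hF he.2.2 hwe hc, act_eich hF he.2.2 hwe hc, hSa, hSa, hSs, hSs,
      add_assoc, add_assoc, add_right_inj] at h
    exact h
  -- isotropic points are fixed
  have hline : ∀ e : V, hJ.Iso hF e → ∃ k : F, k ≠ 0 ∧ S e = k • e := by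
    intro e he
    obtain ⟨f, hf, hb⟩ := hJ.exists_pair hF h2 he
    have hfe : B f e ≠ 0 := fun h => hb (orth_symm (herm hF) h)
    have hne : S e ≠ 0 := fun h => he.2.1 (hSi e h)
    suffices h : ∃ k : F, S e = k • e by
      obtain ⟨k, hk⟩ := h
      exact ⟨k, fun h0 => hne (by rw [hk, h0, zero_smul]), hk⟩
    rcases hJ.delta with hd | hd
    swap
    · have hξδ : ξ ^ q = δ * ξ := by rw [hd, neg_one_mul, hξ]
      have h0 : J (0 : V) = δ • (0 : V) := by rw [hJ.map_zero hF, smul_zero]
      have h := hD e 0 ξ he ((herm hF).zero_left e) h0 hξδ (by rw [(herm hF).zero_left, add_zero, hξ'])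
        f
      have hs0 : S (0 : V) = 0 := by
        have := hSs 0 (0 : V)
        rwa [smul_zero, _root_.map_zero, zero_smul] at this
      rw [hs0, smul_zero, smul_zero, zero_add, zero_add, (herm hF).zero_right, sub_zero,
        (herm hF).zero_right, sub_zero] at h
      have hne' : τ (ξ * B f e) ≠ 0 := fun h' => mul_ne_zero hξ0 hfe (τ.injective (h'.trans (_root_.map_zero τ).symm))
      refine ⟨(τ (ξ * B f e))⁻¹ * (ξ * B (S f) e), ?_⟩
      rw [mul_smul, ← h, inv_smul_smul₀ hne']
    · obtain ⟨w, hw, hwe, hwf, hww⟩ := hJ.exists_aniso_perp hF hn h2 hd he hf hb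
      have hwδ : J w = δ • w := by rw [hw, hd, one_smul]
      obtain ⟨-, hcδ, hc⟩ := hJ.exists_delta_vec hF h2 hwδ
      set c := -(B w w) / 2
      let D : V → V := fun x => B x e • w + (c * B x e - B x w) • e
      have hcomm : ∀ x, S (D x) = D (S x) := fun x => by
        show S (_ + _) = _
        rw [hSa, hSs, hSs]
        exact hD e w c he hwe hwδ hcδ hc x
      have hDD : ∀ x, D (D x) = (-(B x e) * B w w) • e := fun x => by
        show B (B x e • w + (c * B x e - B x w) • e) e • w + _ = _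
        simp only [(herm hF).add_left, (herm hF).smul_left, hwe, he.2.2, orth_symm (herm hF) hwe, mul_zero,
          add_zero, zero_smul, zero_add, zero_sub, D]
        rw [neg_mul]
      have h := hcomm (D f)
      rw [hcomm f, hDD, hDD, hSs] at h
      have hne' : τ (-(B f e) * B w w) ≠ 0 := fun h' =>
        mul_ne_zero (neg_ne_zero.2 hfe) hww (τ.injective (h'.trans (_root_.map_zero τ).symm))
      refine ⟨(τ (-(B f e) * B w w))⁻¹ * (-(B (S f) e) * B w w), ?_⟩
      rw [mul_smul, ← h, inv_smul_smul₀ hne']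
  obtain ⟨e, he⟩ := hJ.exists_iso hF hn h2
  obtain ⟨f, hf, hb⟩ := hJ.exists_pair hF h2 he
  have hfe : B f e ≠ 0 := fun h => hb (orth_symm (herm hF) h)
  obtain ⟨lam, hlam0, hlam⟩ := hline e he
  obtain ⟨κ, hκ0, hκ⟩ := hline f hf
  set b := B f e with hb_def
  have hbq : b ^ q = δ * b := hJ.real_form hF hf.1 he.1
  -- the two equations
  have hEq : ∀ (w : V) (c : F), B w e = 0 → B w f = 0 → J w = δ • w → c ^ q = δ * c →
      c + c ^ q + B w w = 0 →
      τ (b * c) * lam = κ * (b * c) ∧ τ b • S w = (κ * b) • w := by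
    intro w c hwe hwf hw hcδ hc
    have key : ∀ w, B w e = 0 → B w f = 0 → J w = δ • w → c + c ^ q + B w w = 0 →
        τ b • S w + (τ (b * c) * lam) • e = (κ * b) • w + (κ * (b * c)) • e := by
      intro w hwe hwf hw hc
      have h := hD e w c he hwe hw hcδ hc f
      rw [hlam, hκ, herm_smul_left, herm_smul_left, orth_symm (herm hF) hwf, mul_zero, sub_zero, sub_zero,
        smul_smul, ← hb_def] at h
      rw [mul_comm b c, ← mul_left_comm c]
      exact h
    have h1 := key w hwe hwf hw hc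
    have h3 := key (-w) (by rw [(herm hF).neg_left, hwe, neg_zero]) (by rw [(herm hF).neg_left, hwf, neg_zero])
      (by rw [hJ.map_neg hF, hw, smul_neg]) (by rw [(herm hF).neg_left, (herm hF).neg_right, neg_neg, hc])
    have hneg : S (-w) = -S w := by
      rw [← neg_one_smul F w, hSs, _root_.map_neg, map_one, neg_one_smul]
    rw [hneg, smul_neg, smul_neg] at h3
    have h4 : (2 : F) • ((τ (b * c) * lam - κ * (b * c)) • e) = 0 := by
      linear_combination (norm := module) h1 + h3
    have h5 : τ (b * c) * lam = κ * (b * c) :=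
      sub_eq_zero.1 ((smul_eq_zero.1 ((smul_eq_zero.1 h4).resolve_left h2)).resolve_right he.2.1)
    refine ⟨h5, ?_⟩
    rw [h5] at h1
    exact add_right_cancel h1
  -- `τ` fixes the field of order `q`
  obtain ⟨w₀, c₀, hw₀e, hw₀f, hw₀, hc₀δ, hc₀, hc₀0, hscale⟩ : ∃ (w₀ : V) (c₀ : F), B w₀ e = 0 ∧
      B w₀ f = 0 ∧ J w₀ = δ • w₀ ∧ c₀ ^ q = δ * c₀ ∧ c₀ + c₀ ^ q + B w₀ w₀ = 0 ∧ c₀ ≠ 0 ∧
      (δ = -1 → w₀ = 0) := by
    rcases hJ.delta with hd | hd
    · obtain ⟨w, hw, hwe, hwf, hww⟩ := hJ.exists_aniso_perp hF hn h2 hd he hf hb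
      have hwδ : J w = δ • w := by rw [hw, hd, one_smul]
      obtain ⟨-, hcδ, hc⟩ := hJ.exists_delta_vec hF h2 hwδ
      exact ⟨w, _, hwe, hwf, hwδ, hcδ, hc, div_ne_zero (neg_ne_zero.2 hww) h2,
        fun h => absurd (hd.symm.trans h) fun h' => h2 (by linear_combination h')⟩
    · exact ⟨0, ξ, (herm hF).zero_left e, (herm hF).zero_left f, by rw [hJ.map_zero hF, smul_zero],
        by rw [hd, neg_one_mul, hξ], by rw [(herm hF).zero_left, add_zero, hξ'], hξ0, fun _ => rfl⟩
  have hbc : (b * c₀) ^ q = b * c₀ := by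
    rw [mul_pow, hbq, hc₀δ]; linear_combination (b * c₀) * hδ
  have hν := (hEq w₀ c₀ hw₀e hw₀f hw₀ hc₀δ hc₀).1
  have hbc0 : b * c₀ ≠ 0 := mul_ne_zero hfe hc₀0
  have hτbc0 : τ (b * c₀) * lam ≠ 0 :=
    mul_ne_zero (fun h' => hbc0 (τ.injective (h'.trans (_root_.map_zero τ).symm))) hlam0
  have hsq : ∀ k : F, k ^ q = k → τ (k * k) = k * k := fun k hk => by
    have h := (hEq (k • w₀) (k * k * c₀) (by rw [herm_smul_left, hw₀e, mul_zero])
      (by rw [herm_smul_left, hw₀f, mul_zero])
      (by rw [hJ.map_smul, hk, hw₀, smul_smul, smul_smul, mul_comm])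
      (by rw [mul_pow, mul_pow, hk, hc₀δ]; ring)
      (by rw [herm_smul_left, smul_right' hF, hk, mul_pow, mul_pow, hk]
          linear_combination (k * k) * hc₀)).1
    rw [mul_left_comm b, map_mul] at h
    refine mul_right_cancel₀ hτbc0 ?_
    linear_combination h - (k * k) * hν
  have hreal : ∀ k : F, k ^ q = k → τ k = k := fun k hk => by
    have h1 := hsq k hk
    have h3 := hsq (k + 1) (by rw [← Forms.qPowHom_apply hF, _root_.map_add, map_one,
      Forms.qPowHom_apply, hk])
    simp only [map_mul, _root_.map_add, map_one] at h1 h3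
    refine mul_left_cancel₀ h2 ?_
    linear_combination h3 - h1
  have hκlam : κ = lam := by
    rw [hreal _ hbc] at hν
    exact mul_right_cancel₀ hbc0 (by linear_combination -hν)
  -- real vectors are scaled
  have hscal : ∀ y, J y = y → S y = lam • y := by
    intro y hy
    obtain ⟨s, t, z, hs, ht, hz, hze, hzf, rfl⟩ := hJ.exists_split hF he hf hb hy
    suffices hzz : S z = lam • z by
      rw [hSa, hSa, hSs, hSs, hlam, hκ, hκlam, hzz, hreal s hs, hreal t ht]
      module
    set w := η • z with hw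
    have hwδ : J w = δ • w := by rw [hw, hJ.map_smul, hη, hz, smul_smul]
    obtain ⟨-, hcδ, hc⟩ := hJ.exists_delta_vec hF h2 hwδ
    have h := (hEq w _ (by rw [hw, herm_smul_left, hze, mul_zero])
      (by rw [hw, herm_smul_left, hzf, mul_zero]) hwδ hcδ hc).2
    have hbη : τ b * τ η = b * η := by
      rw [← map_mul]
      exact hreal _ (by rw [mul_pow, hbq, hη]; linear_combination (b * η) * hδ)
    rw [hw, hSs, smul_smul, smul_smul, hbη, hκlam, mul_assoc, mul_comm lam, mul_smul, mul_smul] at h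
    exact smul_right_injective V hη0 (smul_right_injective V hfe (h.trans (by rw [mul_smul])))
  refine ⟨lam, ?_⟩
  have hξ2 : τ ξ * τ ξ = ξ * ξ := by
    rw [← map_mul]
    exact hreal _ (by rw [mul_pow, hξ]; ring)
  have hdecomp : ∀ x : F, ∃ a b : F, a ^ q = a ∧ b ^ q = b ∧ x = a + b * ξ := fun x => by
    have hxx : (x ^ q) ^ q = x := Forms.pow_q_pow_q hF x
    refine ⟨(x + x ^ q) / 2, (x - x ^ q) / (2 * ξ), ?_, ?_, ?_⟩
    · rw [← Forms.qPowHom_apply hF, map_div₀, _root_.map_add, map_ofNat, Forms.qPowHom_apply,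
        Forms.qPowHom_apply, hxx, add_comm]
    · rw [← Forms.qPowHom_apply hF, map_div₀, _root_.map_sub, map_mul, map_ofNat, Forms.qPowHom_apply,
        Forms.qPowHom_apply, Forms.qPowHom_apply, hxx, hξ]
      field_simp
      ring
    · field_simp
      ring
  rcases mul_self_eq_mul_self_iff.1 hξ2 with h | h
  · left
    have hτ : τ = 1 := RingEquiv.ext fun x => by
      obtain ⟨a, b, ha, hb', rfl⟩ := hdecomp x
      rw [_root_.map_add, map_mul, hreal a ha, hreal b hb', h]
      rfl
    refine ⟨hτ, hJ.eq_of_real hF h2 (τ := fun a => a) (hSa) (fun a v => ?_) (fun u v => smul_add _ u v)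
      (fun a v => smul_comm lam a v) hscal⟩
    rw [hSs, hτ]
    rfl
  · right
    have hτ : ∀ x, τ x = x ^ q := fun x => by
      obtain ⟨a, b, ha, hb', rfl⟩ := hdecomp x
      rw [_root_.map_add, map_mul, hreal a ha, hreal b hb', h, ← Forms.qPowHom_apply hF, _root_.map_add,
        map_mul, Forms.qPowHom_apply, Forms.qPowHom_apply, Forms.qPowHom_apply, ha, hb', hξ]
    refine ⟨hτ, hJ.eq_of_real hF h2 (τ := fun a => a ^ q) (hSa) (fun a v => by rw [hSs, hτ])
      (fun u v => by rw [hJ.map_add, smul_add]) (fun a v => by rw [hJ.map_smul, smul_comm])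
      fun v hv => by rw [hscal v hv, hv]⟩

/-- A semilinear unitary map commuting with the Eichler elements of the real form. -/
theorem scalar_of_commute (hn : 3 ≤ n) (h2 : (2 : F) ≠ 0) (g : GUType n F q) (τ : F ≃+* F)
    (hA : ∀ (e w : V) (c : F), hJ.Iso hF e → B w e = 0 → J w = δ • w → c ^ q = δ * c →
      c + c ^ q + B w w = 0 →
      ∀ x, semi g τ (act (eich e w c : SUT) x) = act (eich e w c : SUT) (semi g τ x)) :
    ∃ lam : F, (τ = 1 ∧ ∀ v, semi g τ v = lam • v) ∨ ((∀ x, τ x = x ^ q) ∧ ∀ v, semi g τ v = lam • J v) :=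
  hJ.scalar_of_commute' hF hn h2 (semi g τ) τ (semi_add g τ) (semi_smul g τ) (fun v h => by
    have h1 : sv τ v = 0 := by
      rw [← gv_inv_cancel' g.1 (sv τ v), show gv g.1 (sv τ v) = semi g τ v from rfl, h]; simp [gv]
    funext i
    exact τ.injective ((congrFun h1 i).trans (_root_.map_zero τ).symm)) hA

end IsRealForm

end Cfsg.Agent.Lib.PSUBalance
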