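import Cfsg.Agent.Lib.PSUBalance.RealForm
import Cfsg.Agent.Lib.LocalBalance.Criterion
import Cfsg.Agent.Lib.PSolvable.Core

/-!
# The group of a real form has no normal subgroup of odd order

The number of isotropic points is even, so a normal subgroup of odd order is intransitive on them; then it
moves every isotropic point to an orthogonal one, which forces it to act as a scalar.
-/

set_option autoImplicit false

namespace Cfsg.Agent.Lib.PSUBalance

open Matrix PSUAut

namespace IsRealForm

variable {F : Type*} [Field F] [Fintype F] {n q : ℕ} (hF : Fintype.card F = q ^ 2)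
variable {J : (Fin n → F) → (Fin n → F)} {δ : F} (hJ : IsRealForm (q := q) J δ)

local notation "V" => (Fin n → F)
local notation "SUT" => (SUType n F q)
local notation "B" => Cfsg.hermForm n F q

include hF hJ

/-- The isotropic points inside `S`. -/
def isoLines (S : Submodule F (Fin n → F)) : Set (Submodule F (Fin n → F)) :=
  {ℓ | ∃ e, hJ.Iso hF e ∧ e ∈ S ∧ ℓ = Submodule.span F {e}}

theorem lines_modEq_fixed (S : Submodule F (Fin n → F)) (T : V →ₗ[F] V) (hT : ∀ v, T (T v) = v)
    (hmaps : ∀ e, hJ.Iso hF e → e ∈ S → hJ.Iso hF (T e) ∧ T e ∈ S) :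
    (hJ.isoLines hF S).ncard ≡ {ℓ | ℓ ∈ hJ.isoLines hF S ∧ ℓ.map T = ℓ}.ncard [MOD 2] := by
  set L := hJ.isoLines hF S
  have hmem : ∀ ℓ ∈ L, ℓ.map T ∈ L := by
    rintro _ ⟨e, he, heS, rfl⟩
    exact ⟨T e, (hmaps e he heS).1, (hmaps e he heS).2, by rw [Submodule.map_span, Set.image_singleton]⟩
  let f : ↥L → ↥L := fun ℓ => ⟨ℓ.1.map T, hmem _ ℓ.2⟩
  have hf : Function.Involutive f := fun ℓ => Subtype.ext (by
    show (ℓ.1.map T).map T = ℓ.1
    rw [← Submodule.map_comp, show T.comp T = LinearMap.id from LinearMap.ext hT, Submodule.map_id])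
  have h := LocalBalance.natCard_modEq_fixed hf
  rw [Nat.card_coe_set_eq] at h
  refine h.trans (congrArg (· % 2) ?_)
  rw [← Nat.card_coe_set_eq]
  exact Nat.card_congr
    { toFun := fun a => ⟨a.1.1, a.1.2, congrArg Subtype.val a.2⟩
      invFun := fun b => ⟨⟨b.1, b.2.1⟩, Subtype.ext b.2.2⟩
      left_inv := fun a => rfl
      right_inv := fun b => rfl }

/-- A nondegenerate `J`-stable subspace has an even number of isotropic points. -/
theorem even_isoLines (h2 : (2 : F) ≠ 0) : ∀ (k : ℕ) (S : Submodule F (Fin n → F)),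
    Module.finrank F S ≤ k → (∀ v ∈ S, J v ∈ S) → NondegOn (Cfsg.hermForm n F q) S →
    2 ∣ (hJ.isoLines hF S).ncard := by
  intro k
  induction k with
  | zero =>
    intro S hk _ _
    have hbot : S = ⊥ := Submodule.finrank_eq_zero.1 (Nat.le_zero.1 hk)
    have : hJ.isoLines hF S = ∅ := Set.eq_empty_iff_forall_notMem.2 fun ℓ ⟨e, he, heS, _⟩ =>
      he.2.1 ((Submodule.mem_bot F).1 (hbot ▸ heS))
    simp [this]
  | succ k ih =>
    intro S hk hJS hnd
    rcases Set.eq_empty_or_nonempty (hJ.isoLines hF S) with h | ⟨_, e, he, heS, rfl⟩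
    · simp [h]
    obtain ⟨f, hf, hfS, hb⟩ : ∃ f, hJ.Iso hF f ∧ f ∈ S ∧ B e f ≠ 0 := by
      obtain ⟨y, hy, hyS, hey⟩ : ∃ y, J y = y ∧ y ∈ S ∧ B e y ≠ 0 := by
        by_contra hne
        push Not at hne
        refine he.2.1 (hnd e heS fun z hz => ?_)
        obtain ⟨a, b, c, d, ha, hb, hz', haS, hbS⟩ := hJ.exists_real_parts hF h2 z
        have hle : Submodule.span F ({z, J z} : Set V) ≤ S :=
          Submodule.span_le.2 (Set.insert_subset hz (Set.singleton_subset_iff.2 (hJS z hz)))
        rw [hz', (herm hF).add_right, (herm hF).smul_right, (herm hF).smul_right, hne a ha (hle haS),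
          hne b hb (hle hbS), mul_zero, mul_zero, add_zero]
      have hne' : ∀ v : V, B e v ≠ 0 → v ≠ 0 := fun v hv h0 => hv (by rw [h0, (herm hF).zero_right])
      rcases hJ.delta with hδ | hδ
      · have hye : B y e = B e y := by rw [hJ.form_symm hF he.1 hy, hδ, one_mul]
        have htq : (-(B y y) / (2 * B e y)) ^ q = -(B y y) / (2 * B e y) := by
          rw [← Forms.qPowHom_apply hF, map_div₀, _root_.map_neg, map_mul, map_ofNat,
            Forms.qPowHom_apply, Forms.qPowHom_apply, hJ.real_form_one hF hδ hy hy,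
            hJ.real_form_one hF hδ he.1 hy]
        refine ⟨y + (-(B y y) / (2 * B e y)) • e,
          ⟨hJ.real_add hF hy (hJ.real_smul hF htq he.1), ?_, ?_⟩, add_mem hyS (S.smul_mem _ heS), ?_⟩
        · exact hne' _ (by rw [(herm hF).add_right, smul_right' hF, he.2.2, mul_zero, add_zero]; exact hey)
        · rw [hJ.form_add_self hF (by rw [(herm hF).smul_left, smul_right' hF, htq, hye]), smul_right' hF,
            (herm hF).smul_left, smul_right' hF, he.2.2, hye, htq]
          field_simp
          ring
        · rw [(herm hF).add_right, smul_right' hF, he.2.2, mul_zero, add_zero]; exact hey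
      · exact ⟨y, ⟨hy, hne' y hey, hJ.self_zero_of_neg hF h2 hδ hy⟩, hyS, hey⟩
    have hfe : B f e ≠ 0 := fun h => hb (orth_symm (herm hF) h)
    -- the involution `-1` on the pair, `1` on its orthogonal
    let φe : V →ₗ[F] F :=
      { toFun := fun x => B x f / B e f
        map_add' := fun x y => by rw [(herm hF).add_left, add_div]
        map_smul' := fun a x => by rw [(herm hF).smul_left, RingHom.id_apply, smul_eq_mul, mul_div_assoc] }
    let φf : V →ₗ[F] F :=
      { toFun := fun x => B x e / B f e
        map_add' := fun x y => by rw [(herm hF).add_left, add_div]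
        map_smul' := fun a x => by rw [(herm hF).smul_left, RingHom.id_apply, smul_eq_mul, mul_div_assoc] }
    have hφee : φe e = 1 := div_self hb
    have hφef : φe f = 0 := by show B f f / B e f = 0; rw [hf.2.2, zero_div]
    have hφfe : φf e = 0 := by show B e e / B f e = 0; rw [he.2.2, zero_div]
    have hφff : φf f = 1 := div_self hfe
    let R : V →ₗ[F] V := LinearMap.id - (2 : F) • φe.smulRight e - (2 : F) • φf.smulRight f
    have hR : ∀ x, R x = x - (2 * φe x) • e - (2 * φf x) • f := fun x => by
      simp [R, smul_smul]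
    have hRR : ∀ x, R (R x) = x := fun x => by
      have h1 : φe (R x) = -φe x := by
        rw [hR, _root_.map_sub, _root_.map_sub, _root_.map_smul, _root_.map_smul, hφee, hφef]; simp; ring
      have h3 : φf (R x) = -φf x := by
        rw [hR, _root_.map_sub, _root_.map_sub, _root_.map_smul, _root_.map_smul, hφfe, hφff]; simp; ring
      rw [hR (R x), h1, h3, hR]
      module
    have hsplit : ∀ v, J v = v → ∃ (s t : F) (w : V), s ^ q = s ∧ t ^ q = t ∧ J w = w ∧ B w e = 0 ∧
        B w f = 0 ∧ v = s • e + t • f + w ∧ φe v = s ∧ φf v = t := by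
      intro v hv
      obtain ⟨s, t, w, hs, ht, hw, hwe, hwf, rfl⟩ := hJ.exists_split hF he hf hb hv
      refine ⟨s, t, w, hs, ht, hw, hwe, hwf, rfl, ?_, ?_⟩
      · rw [_root_.map_add, _root_.map_add, _root_.map_smul, _root_.map_smul, hφee, hφef,
          show φe w = 0 by show B w f / B e f = 0; rw [hwf, zero_div]]
        simp
      · rw [_root_.map_add, _root_.map_add, _root_.map_smul, _root_.map_smul, hφfe, hφff,
          show φf w = 0 by show B w e / B f e = 0; rw [hwe, zero_div]]
        simp
    have hmapsR : ∀ v, hJ.Iso hF v → v ∈ S → hJ.Iso hF (R v) ∧ R v ∈ S := by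
      intro v hv hvS
      obtain ⟨s, t, w, hs, ht, hw, hwe, hwf, hve, hse, hte⟩ := hsplit v hv.1
      have hRv : R v = -(s • e) + -(t • f) + w := by
        rw [hR, hse, hte, hve]
        module
      refine ⟨⟨?_, fun h0 => hv.2.1 (by rw [← hRR v, h0, _root_.map_zero]), ?_⟩,
        by rw [hR]; exact sub_mem (sub_mem hvS (S.smul_mem _ heS)) (S.smul_mem _ hfS)⟩
      · rw [hRv, hJ.map_add, hJ.map_add, hJ.map_neg hF, hJ.map_neg hF, hJ.real_smul hF hs he.1,
          hJ.real_smul hF ht hf.1, hw]
      · have h0 := hv.2.2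
        rw [hve] at h0
        rw [hRv]
        simp only [(herm hF).add_left, (herm hF).add_right, (herm hF).neg_left, (herm hF).neg_right,
          (herm hF).smul_left, smul_right' hF, he.2.2, hf.2.2, hwe, hwf, orth_symm (herm hF) hwe,
          orth_symm (herm hF) hwf, mul_zero, add_zero, zero_add, neg_zero, neg_neg] at h0 ⊢
        exact h0
    set S' := S ⊓ (LinearMap.ker φe ⊓ LinearMap.ker φf) with hS'
    set P := Submodule.span F ({e, f} : Set V) with hP
    have hPS : P ≤ S := Submodule.span_le.2 (Set.insert_subset heS (Set.singleton_subset_iff.2 hfS))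
    -- fixed points of `R`
    have hfix : {ℓ | ℓ ∈ hJ.isoLines hF S ∧ ℓ.map R = ℓ} = hJ.isoLines hF P ∪ hJ.isoLines hF S' := by
      ext ℓ
      constructor
      · rintro ⟨⟨v, hv, hvS, rfl⟩, hℓ⟩
        obtain ⟨s, t, w, hs, ht, hw, hwe, hwf, hve, hse, hte⟩ := hsplit v hv.1
        have : R v ∈ Submodule.span F {v} := by
          rw [← hℓ]; exact Submodule.mem_map_of_mem (Submodule.mem_span_singleton_self v)
        obtain ⟨a, ha⟩ := Submodule.mem_span_singleton.1 this
        have he1 := congrArg φe ha
        have hf1 := congrArg φf ha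
        have hφR : φe (R v) = -s ∧ φf (R v) = -t := by
          rw [hR, hse, hte]
          simp [_root_.map_sub, _root_.map_smul, hφee, hφef, hφfe, hφff, hse, hte]
          constructor <;> ring
        rw [_root_.map_smul, hse, hφR.1, smul_eq_mul] at he1
        rw [_root_.map_smul, hte, hφR.2, smul_eq_mul] at hf1
        by_cases hst : s = 0 ∧ t = 0
        · refine Or.inr ⟨v, hv, ⟨hvS, ?_, ?_⟩, rfl⟩
          · exact LinearMap.mem_ker.2 (hse.trans hst.1)
          · exact LinearMap.mem_ker.2 (hte.trans hst.2)
        · refine Or.inl ⟨v, hv, ?_, rfl⟩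
          have ha1 : a = -1 := by
            rcases not_and_or.1 hst with h | h
            · exact mul_right_cancel₀ h (he1.trans (neg_one_mul s).symm)
            · exact mul_right_cancel₀ h (hf1.trans (neg_one_mul t).symm)
          rw [ha1, hR, hse, hte] at ha
          have hv2 : (2 : F) • v = (2 : F) • (s • e + t • f) := by
            rw [two_smul]
            have h4 : v + v = (v - (-1 : F) • v) := by rw [neg_smul, one_smul, sub_neg_eq_add]
            rw [h4, ha]
            module
          rw [smul_right_injective V h2 hv2]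
          exact Submodule.mem_span_pair.2 ⟨s, t, rfl⟩
      · rintro (⟨v, hv, hvP, rfl⟩ | ⟨v, hv, ⟨hvS, hve, hvf⟩, rfl⟩)
        · refine ⟨⟨v, hv, hPS hvP, rfl⟩, ?_⟩
          obtain ⟨s, t, rfl⟩ := Submodule.mem_span_pair.1 hvP
          have : R (s • e + t • f) = -(s • e + t • f) := by
            rw [hR, _root_.map_add, _root_.map_add, _root_.map_smul, _root_.map_smul, _root_.map_smul,
              _root_.map_smul, hφee, hφef, hφfe, hφff]
            simp only [smul_eq_mul, mul_one, mul_zero, add_zero, zero_add]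
            module
          rw [Submodule.map_span, Set.image_singleton, this, ← Set.neg_singleton, Submodule.span_neg]
        · refine ⟨⟨v, hv, hvS, rfl⟩, ?_⟩
          rw [Submodule.map_span, Set.image_singleton, hR, LinearMap.mem_ker.1 hve, LinearMap.mem_ker.1 hvf]
          simp
    have hdisj : Disjoint (hJ.isoLines hF P) (hJ.isoLines hF S') := by
      rw [Set.disjoint_left]
      rintro _ ⟨v, hv, hvP, rfl⟩ ⟨v', hv', ⟨-, hve, hvf⟩, hℓ⟩
      obtain ⟨a, ha⟩ := Submodule.mem_span_singleton.1 (hℓ.le (Submodule.mem_span_singleton_self v))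
      obtain ⟨s, t, hst⟩ := Submodule.mem_span_pair.1 hvP
      have h1 : φe v = 0 := by rw [← ha, _root_.map_smul, LinearMap.mem_ker.1 hve, smul_zero]
      have h3 : φf v = 0 := by rw [← ha, _root_.map_smul, LinearMap.mem_ker.1 hvf, smul_zero]
      rw [← hst, _root_.map_add, _root_.map_smul, _root_.map_smul, hφee, hφef] at h1
      rw [← hst, _root_.map_add, _root_.map_smul, _root_.map_smul, hφfe, hφff] at h3
      simp at h1 h3
      exact hv.2.1 (by rw [← hst, h1, h3, zero_smul, zero_smul, add_zero])
    -- the pair contributes an even number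
    have hPeven : 2 ∣ (hJ.isoLines hF P).ncard := by
      let T : V →ₗ[F] V := LinearMap.id - (2 : F) • φf.smulRight f
      have hT : ∀ x, T x = x - (2 * φf x) • f := fun x => by simp [T, smul_smul]
      have hTT : ∀ x, T (T x) = x := fun x => by
        have : φf (T x) = -φf x := by rw [hT, _root_.map_sub, _root_.map_smul, hφff]; simp; ring
        rw [hT (T x), this, hT]
        module
      have hTp : ∀ s t : F, T (s • e + t • f) = s • e + (-t) • f := fun s t => by
        rw [hT, _root_.map_add, _root_.map_smul, _root_.map_smul, hφfe, hφff]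
        simp only [smul_eq_mul, mul_one, mul_zero, zero_add]
        module
      have hmapsT : ∀ v, hJ.Iso hF v → v ∈ P → hJ.Iso hF (T v) ∧ T v ∈ P := by
        intro v hv hvP
        obtain ⟨s, t, rfl⟩ := Submodule.mem_span_pair.1 hvP
        obtain ⟨s', t', w, hs, ht, -, hwe, hwf, hve, hse, hte⟩ := hsplit _ hv.1
        have hss : s = s' := by
          rw [_root_.map_add, _root_.map_smul, _root_.map_smul, hφee, hφef] at hse; simpa using hse
        have htt : t = t' := by
          rw [_root_.map_add, _root_.map_smul, _root_.map_smul, hφfe, hφff] at hte; simpa using hte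
        subst hss; subst htt
        have hnt : (-t) ^ q = -t := by
          rw [← Forms.qPowHom_apply hF, _root_.map_neg, Forms.qPowHom_apply, ht]
        refine ⟨⟨?_, fun h0 => hv.2.1 (by rw [← hTT (s • e + t • f), h0, _root_.map_zero]), ?_⟩, ?_⟩
        · rw [hTp, hJ.map_add, hJ.real_smul hF hs he.1, hJ.real_smul hF hnt hf.1]
        · have h0 := hv.2.2
          rw [hTp]
          simp only [(herm hF).add_left, (herm hF).add_right, (herm hF).smul_left, smul_right' hF,
            he.2.2, hf.2.2, hs, ht, hnt] at h0 ⊢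
          linear_combination -h0
        · rw [hTp]; exact Submodule.mem_span_pair.2 ⟨s, -t, rfl⟩
      have hfixT : {ℓ | ℓ ∈ hJ.isoLines hF P ∧ ℓ.map T = ℓ}
          = {Submodule.span F {e}, Submodule.span F {f}} := by
        ext ℓ
        constructor
        · rintro ⟨⟨v, hv, hvP, rfl⟩, hℓ⟩
          obtain ⟨s, t, rfl⟩ := Submodule.mem_span_pair.1 hvP
          have hmem : T (s • e + t • f) ∈ Submodule.span F {s • e + t • f} := by
            rw [← hℓ]; exact Submodule.mem_map_of_mem (Submodule.mem_span_singleton_self _)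
          obtain ⟨a, ha⟩ := Submodule.mem_span_singleton.1 hmem
          rw [hTp] at ha
          by_cases hs0 : s = 0
          · right
            subst hs0
            rw [zero_smul, zero_add] at hv ⊢
            exact Submodule.span_singleton_smul_eq (Ne.isUnit fun h0 => hv.2.1 (by rw [h0, zero_smul])) f
          · left
            have h1 := congrArg φe ha
            have h3 := congrArg φf ha
            simp [_root_.map_add, _root_.map_smul, hφee, hφef, hφfe, hφff] at h1 h3
            have ha1 : a = 1 := mul_right_cancel₀ hs0 (h1.trans (one_mul s).symm)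
            have ht0 : t = 0 := by
              rw [ha1, one_mul] at h3
              have : (2 : F) * t = 0 := by linear_combination h3
              exact (mul_eq_zero.1 this).resolve_left h2
            subst ht0
            rw [zero_smul, add_zero]
            exact Submodule.span_singleton_smul_eq (Ne.isUnit hs0) e
        · rintro (rfl | rfl)
          · refine ⟨⟨e, he, Submodule.subset_span (by simp), rfl⟩, ?_⟩
            rw [Submodule.map_span, Set.image_singleton, hT, hφfe]; simp
          · refine ⟨⟨f, hf, Submodule.subset_span (by simp), rfl⟩, ?_⟩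
            rw [Submodule.map_span, Set.image_singleton, hT, hφff, mul_one,
              show f - (2 : F) • f = -f by module, ← Set.neg_singleton, Submodule.span_neg]
      have hne : Submodule.span F {e} ≠ Submodule.span F {f} := fun h => by
        obtain ⟨a, ha⟩ := Submodule.mem_span_singleton.1 (h.le (Submodule.mem_span_singleton_self e))
        exact hb (by rw [← ha, (herm hF).smul_left, hf.2.2, mul_zero])
      have h := hJ.lines_modEq_fixed hF P T hTT hmapsT
      rw [hfixT, Set.ncard_pair hne] at h
      exact Nat.modEq_zero_iff_dvd.1 (h.trans (Nat.modEq_zero_iff_dvd.2 dvd_rfl))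
    -- the rest
    have hS'even : 2 ∣ (hJ.isoLines hF S').ncard := by
      refine ih S' ?_ ?_ ?_
      · have hlt : S' < S := lt_of_le_of_ne inf_le_left fun h => by
          have := LinearMap.mem_ker.1 (h.ge heS).2.1
          rw [hφee] at this
          exact one_ne_zero this
        have := Submodule.finrank_lt_finrank_of_lt hlt
        omega
      · rintro v ⟨hvS, hve, hvf⟩
        have h1 : B v f = 0 := by
          have := LinearMap.mem_ker.1 hve
          exact (div_eq_zero_iff.1 this).resolve_right hb
        have h3 : B v e = 0 := by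
          have := LinearMap.mem_ker.1 hvf
          exact (div_eq_zero_iff.1 this).resolve_right hfe
        refine ⟨hJS v hvS, LinearMap.mem_ker.2 ?_, LinearMap.mem_ker.2 ?_⟩
        · show B (J v) f / B e f = 0
          conv_lhs => rw [← hf.1, hJ.form, h1, zero_pow (q_ne_zero hF), mul_zero, zero_div]
        · show B (J v) e / B f e = 0
          conv_lhs => rw [← he.1, hJ.form, h3, zero_pow (q_ne_zero hF), mul_zero, zero_div]
      · intro x hx hx'
        obtain ⟨hxS, hxe, hxf⟩ := hx
        have h1 : B x f = 0 := (div_eq_zero_iff.1 (LinearMap.mem_ker.1 hxe)).resolve_right hb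
        have h3 : B x e = 0 := (div_eq_zero_iff.1 (LinearMap.mem_ker.1 hxf)).resolve_right hfe
        refine hnd x hxS fun y hy => ?_
        have hy' : y - φe y • e - φf y • f ∈ S' := by
          refine ⟨sub_mem (sub_mem hy (S.smul_mem _ heS)) (S.smul_mem _ hfS), ?_, ?_⟩ <;>
            refine LinearMap.mem_ker.2 ?_ <;>
            simp [_root_.map_sub, _root_.map_smul, hφee, hφef, hφfe, hφff]
        have := hx' _ hy'
        rwa [(herm hF).sub_right, (herm hF).sub_right, smul_right' hF, smul_right' hF, h1, h3, mul_zero,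
          mul_zero, sub_zero, sub_zero] at this
    have h := hJ.lines_modEq_fixed hF S R hRR hmapsR
    rw [hfix, Set.ncard_union_eq hdisj (Set.toFinite _) (Set.toFinite _)] at h
    exact Nat.modEq_zero_iff_dvd.1 (h.trans (Nat.modEq_zero_iff_dvd.2 (dvd_add hPeven hS'even)))

/-- `act` of an element of `sj` preserves isotropic real vectors. -/
theorem iso_act {s : SUT} (hs : s ∈ sj q J) {e : V} (he : hJ.Iso hF e) : hJ.Iso hF (act s e) :=
  ⟨by rw [← hs e, he.1], act_ne_zero s he.2.1, by rw [act_form, he.2.2]⟩

set_option maxHeartbeats 800000 in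
/-- A normal subgroup of odd order moves isotropic points to orthogonal ones. -/
theorem orth_of_normal_odd (hn : 3 ≤ n) (h2 : (2 : F) ≠ 0) (M : Subgroup ↥(sj (n := n) (F := F) q J))
    [hM : M.Normal] (hodd : ¬ 2 ∣ Nat.card ↥M) :
    ∀ m ∈ M, ∀ e : V, hJ.Iso hF e → B (act (m : SUT) e) e = 0 := by
  intro m hm e he
  by_contra hne
  apply hodd
  let Rl : V → V → Prop := fun x y => ∃ m ∈ M, ∃ a : F, a ≠ 0 ∧ act (m : SUT) x = a • y
  have hsymm : ∀ x y, Rl x y → Rl y x := by
    rintro x y ⟨m, hm, a, ha, h⟩
    refine ⟨m⁻¹, inv_mem hm, a⁻¹, inv_ne_zero ha, ?_⟩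
    have h1 : act (m : SUT)⁻¹ (a • y) = x := by rw [← h, act_inv_cancel']
    rw [act_smul] at h1
    rw [← h1, smul_smul, inv_mul_cancel₀ ha, one_smul]
    rfl
  have htrans : ∀ x y z, Rl x y → Rl y z → Rl x z := by
    rintro x y z ⟨m, hm, a, ha, h⟩ ⟨m', hm', a', ha', h'⟩
    refine ⟨m' * m, mul_mem hm' hm, a * a', mul_ne_zero ha ha', ?_⟩
    rw [Subgroup.coe_mul, act_mul, h, act_smul, h', smul_smul]
  have hfar : ∀ x y y' : V, hJ.Iso hF x → hJ.Iso hF y → hJ.Iso hF y' → Rl x y → B y x ≠ 0 →
      B y' x ≠ 0 → Rl x y' := by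
    rintro x y y' hx hy hy' ⟨m, hm, a, ha, h⟩ hb hb'
    obtain ⟨s, hs, k, hk, hsx, hsy⟩ := hJ.exists_move hF hx hy hy' hb hb'
    let g₀ : ↥(sj (n := n) (F := F) q J) := ⟨s, hs⟩
    have hconj : g₀ * m * g₀⁻¹ ∈ M := hM.conj_mem m hm g₀
    refine ⟨g₀ * m * g₀⁻¹, hconj, a * k, mul_ne_zero ha hk, ?_⟩
    have hsx' : act s⁻¹ x = x := by
      conv_lhs => rw [← hsx, act_inv_cancel']
    show act (s * (m : SUT) * s⁻¹) x = _
    rw [act_mul, act_mul, hsx', h, act_smul, hsy, smul_smul]
  set f := act (m : SUT) e with hf
  have hfI : hJ.Iso hF f := hJ.iso_act hF m.2 he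
  have hef : Rl e f := ⟨m, hm, 1, one_ne_zero, by rw [one_smul]⟩
  have hfe : B e f ≠ 0 := fun h => hne (orth_symm (herm hF) h)
  have hall : ∀ z, hJ.Iso hF z → Rl e z := by
    intro z hz
    by_cases hze : B z e = 0
    swap
    · exact hfar e f z he hfI hz hef hne hze
    by_cases hzf : B z f = 0
    swap
    · exact htrans _ _ _ hef (hfar f e z hfI he hz (hsymm _ _ hef) hfe hzf)
    obtain ⟨g, hg, hzg⟩ := hJ.exists_pair hF h2 hz
    by_cases hge : B g e = 0
    swap
    · have h1 : Rl e g := hfar e f g he hfI hg hef hne hge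
      exact htrans _ _ _ h1
        (hfar g e z hg he hz (hsymm _ _ h1) (fun h => hge (orth_symm (herm hF) h)) hzg)
    by_cases hgf : B g f = 0
    swap
    · have h1 : Rl f g := hfar f e g hfI he hg (hsymm _ _ hef) hfe hgf
      exact htrans _ _ _ (htrans _ _ _ hef h1)
        (hfar g f z hg hfI hz (hsymm _ _ h1) (fun h => hgf (orth_symm (herm hF) h)) hzg)
    have hye : B (g + f) e ≠ 0 := by rw [(herm hF).add_left, hge, zero_add]; exact hne
    have hy : hJ.Iso hF (g + f) := ⟨hJ.real_add hF hg.1 hfI.1,
      fun h0 => hye (by rw [h0, (herm hF).zero_left]), by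
        rw [(herm hF).add_left, (herm hF).add_right, (herm hF).add_right, hg.2.2, hfI.2.2, hgf,
          orth_symm (herm hF) hgf]
        simp⟩
    have h1 : Rl e (g + f) := hfar e f _ he hfI hy hef hne hye
    exact htrans _ _ _ h1 (hfar _ e z hy he hz (hsymm _ _ h1)
      (fun h => hye (orth_symm (herm hF) h)) (by rw [(herm hF).add_right, hzf, add_zero]; exact hzg))
  -- the points form one orbit
  letI act₀ : MulAction ↥M (Submodule F (Fin n → F)) :=
    { smul := fun a ℓ => ℓ.map (Classical.suLinear n F q ((a : ↥(sj q J)) : SUT)).toLinearMap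
      one_smul := fun ℓ => by
        show ℓ.map _ = ℓ
        simp only [OneMemClass.coe_one, map_one]
        exact Submodule.map_id ℓ
      mul_smul := fun a b ℓ => by
        show ℓ.map _ = (ℓ.map _).map _
        simp only [Subgroup.coe_mul, map_mul]
        rw [← Submodule.map_comp]
        rfl }
  have horb : hJ.isoLines hF ⊤ = MulAction.orbit ↥M (Submodule.span F ({e} : Set V)) := by
    ext ℓ
    constructor
    · rintro ⟨z, hz, -, rfl⟩
      obtain ⟨m', hm', a, ha, h⟩ := hall z hz
      refine ⟨⟨m', hm'⟩, ?_⟩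
      show (Submodule.span F ({e} : Set V)).map _ = _
      rw [Submodule.map_span, Set.image_singleton]
      show Submodule.span F {act (m' : SUT) e} = _
      rw [h]
      exact Submodule.span_singleton_smul_eq (Ne.isUnit ha) z
    · rintro ⟨m', rfl⟩
      refine ⟨act ((m' : ↥(sj q J)) : SUT) e, hJ.iso_act hF (m' : ↥(sj q J)).2 he, Submodule.mem_top, ?_⟩
      show (Submodule.span F ({e} : Set V)).map _ = _
      rw [Submodule.map_span, Set.image_singleton]
      rfl
  have hdvd := hJ.even_isoLines hF h2 _ ⊤ le_rfl (fun _ _ => Submodule.mem_top)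
    (nondegOn_top (herm hF))
  rw [horb, ← Nat.card_coe_set_eq,
    Nat.card_congr (MulAction.orbitEquivQuotientStabilizer ↥M _)] at hdvd
  exact hdvd.trans (Subgroup.card_quotient_dvd_card _)

theorem eq_one_of_sq {M : Subgroup ↥(sj (n := n) (F := F) q J)} (hodd : ¬ 2 ∣ Nat.card ↥M)
    {m : ↥(sj q J)} (hm : m ∈ M) (h : m ^ 2 = 1) : m = 1 := by
  by_contra hne
  refine hodd ?_
  rw [← orderOf_eq_prime h hne, ← Subgroup.orderOf_mk _ hm]
  exact orderOf_dvd_natCard _

omit hJ in
theorem exists_reflection {w : V} (hw : B w w ≠ 0) :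
    ∃ r : GUType n F q, (∀ x, gv r.1 x = x - (2 * B x w / B w w) • w) ∧
      ∀ x, gv r.1⁻¹ x = x - (2 * B x w / B w w) • w := by
  let R : V →ₗ[F] V :=
    { toFun := fun x => x - (2 * B x w / B w w) • w
      map_add' := fun x y => by rw [(herm hF).add_left]; module
      map_smul' := fun a x => by
        rw [(herm hF).smul_left, RingHom.id_apply, smul_sub, smul_smul]
        congr 2; ring }
  have hRR : ∀ x, R (R x) = x := fun x => by
    show (x - _ • w) - (2 * B (x - _ • w) w / B w w) • w = x
    rw [(herm hF).sub_left, (herm hF).smul_left]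
    field_simp
    module
  let A : Matrix (Fin n) (Fin n) F := LinearMap.toMatrix' R
  have hAA : A * A = 1 := by
    rw [← LinearMap.toMatrix'_comp, show R.comp R = LinearMap.id from LinearMap.ext hRR,
      LinearMap.toMatrix'_id]
  let g : GL (Fin n) F := ⟨A, A, hAA, hAA⟩
  have hgv : ∀ x, gv g x = R x := fun x => LinearMap.toMatrix'_mulVec R x
  have hmem : g ∈ Cfsg.GU n F q := by
    intro u v
    show B (gv g u) (gv g v) = B u v
    rw [hgv, hgv]
    show B (u - (2 * B u w / B w w) • w) (v - (2 * B v w / B w w) • w) = B u v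
    have hQ : B w w ^ q = B w w := qpow_self hF w
    have h2 : (2 : F) ^ q = 2 := by rw [← Forms.qPowHom_apply hF, map_ofNat]
    have hvw : B v w ^ q = B w v := by rw [← Forms.qPowHom_apply hF, (herm hF).symm]
    rw [(herm hF).sub_left, (herm hF).sub_right, (herm hF).sub_right, (herm hF).smul_left,
      (herm hF).smul_left, smul_right' hF, smul_right' hF, div_pow, mul_pow, hQ, h2, hvw]
    field_simp
    ring
  exact ⟨⟨g, hmem⟩, hgv, hgv⟩

/-- The group of a real form has no nontrivial normal subgroup of odd order. -/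
theorem sj_normal_odd (hn : 3 ≤ n) (h2 : (2 : F) ≠ 0) (M₀ : Subgroup ↥(sj (n := n) (F := F) q J))
    [hM₀ : M₀.Normal] (hodd₀ : ¬ 2 ∣ Nat.card ↥M₀) : M₀ = ⊥ := by
  haveI : Finite ↥(sj (n := n) (F := F) q J) := inferInstance
  set M := Cfsg.pPrimeCore 2 ↥(sj (n := n) (F := F) q J) with hMdef
  have hle : M₀ ≤ M := PSolvable.le_pPrimeCore
    ((Nat.prime_two.coprime_iff_not_dvd.2 hodd₀).symm)
  haveI hchar : M.Characteristic := PSolvable.pPrimeCore_characteristic
  haveI : Fact (Nat.Prime 2) := ⟨Nat.prime_two⟩
  have hodd : ¬ 2 ∣ Nat.card ↥M := PSolvable.pPrimeCore_not_dvd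
  have horth := hJ.orth_of_normal_odd hF hn h2 M hodd
  refine eq_bot_iff.2 (hle.trans fun m hm => Subgroup.mem_bot.2 (eq_one_of_sq hF hJ hodd hm ?_))
  refine Subtype.ext (act_ext fun v => ?_)
  rw [SubmonoidClass.coe_pow, sq, OneMemClass.coe_one, act_one]
  refine hJ.eq_of_real hF h2 (f := fun v => act ((m : SUT) * (m : SUT)) v) (g := fun v => v) (τ := id)
    (fun u v => _root_.map_add _ _ _) (fun a v => _root_.map_smul _ _ _) (fun u v => rfl)
    (fun a v => rfl) (fun v hv => ?_) v
  rw [act_mul]
  rcases hJ.delta with hδ | hδ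
  swap
  · -- alternating case
    have hq0 : ∀ w, J w = w → B (act (m : SUT) w) w = 0 := fun w hw => by
      by_cases hw0 : w = 0
      · rw [hw0, (herm hF).zero_right]
      · exact horth m hm w ⟨hw, hw0, hJ.self_zero_of_neg hF h2 hδ hw⟩
    have key : act (m : SUT) v = act (m : SUT)⁻¹ v := by
      refine sub_eq_zero.1 (hJ.eq_zero_of_orth hF h2 fun y hy => ?_)
      have hmv : ∀ u, J u = u → J (act (m : SUT)⁻¹ u) = act (m : SUT)⁻¹ u := fun u hu => by
        have := (inv_mem m.2 : (m : SUT)⁻¹ ∈ sj q J) u
        rw [hu] at this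
        exact this.symm
      have h1 := hq0 (v + y) (hJ.real_add hF hv hy)
      rw [act_add,
        (herm hF).add_left, (herm hF).add_right, (herm hF).add_right, hq0 v hv, hq0 y hy, zero_add,
        add_zero] at h1
      have h3 : B (act (m : SUT) y) v = -B (act (m : SUT)⁻¹ v) y := by
        conv_lhs => rw [← act_inv_cancel (m : SUT) v, act_form, hJ.form_symm hF (hmv v hv) hy, hδ]
        ring
      rw [h3] at h1
      rw [(herm hF).sub_left]
      linear_combination h1
    rw [key, act_inv_cancel]
  · -- symmetric case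
    have hperp : ∀ m' ∈ M, ∀ e : V, hJ.Iso hF e → ∀ w, J w = w → B w e = 0 → B w w ≠ 0 →
        B (act (m' : SUT) e) w = 0 := by
      intro m' hm' e he w hw hwe hww
      obtain ⟨r, hr, hr'⟩ := exists_reflection hF hww
      set Q := B w w with hQ
      have hcomm : ∀ x, gv r.1 (J x) = J (gv r.1 x) := fun x => by
        have h1 : B (J x) w = B x w ^ q := by
          conv_lhs => rw [← hw, hJ.form, hδ, one_mul]
        rw [hr, hr, hJ.map_sub hF, hJ.map_smul, hw, h1, div_pow, mul_pow, qpow_self hF w,
          show (2 : F) ^ q = 2 by rw [← Forms.qPowHom_apply hF, map_ofNat]]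
      have hmem : ∀ s ∈ sj (n := n) (F := F) q J, suConjFun r s ∈ sj q J := fun s hs x => by
        have hr2 : ∀ x, gv r.1⁻¹ x = gv r.1 x := fun x => by rw [hr, hr']
        rw [act_suConjFun, act_suConjFun, hr2, hr2, hcomm, hs, hcomm]
      let ψ : MulAut ↥(sj (n := n) (F := F) q J) :=
        { toFun := fun s => ⟨suConjFun r s, hmem _ s.2⟩
          invFun := fun s => ⟨suConjFun r s, hmem _ s.2⟩
          left_inv := fun s => Subtype.ext (act_ext fun x => by
            have hr2 : ∀ x, gv r.1⁻¹ x = gv r.1 x := fun x => by rw [hr, hr']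
            simp only [act_suConjFun, hr2]
            rw [← hr2 (gv r.1 x), gv_inv_cancel', ← hr2 (act _ x), gv_inv_cancel])
          right_inv := fun s => Subtype.ext (act_ext fun x => by
            have hr2 : ∀ x, gv r.1⁻¹ x = gv r.1 x := fun x => by rw [hr, hr']
            simp only [act_suConjFun, hr2]
            rw [← hr2 (gv r.1 x), gv_inv_cancel', ← hr2 (act _ x), gv_inv_cancel])
          map_mul' := fun s t => Subtype.ext ((suConj r).map_mul (s : SUT) (t : SUT)) }
      have hψ : ψ (m'⁻¹) ∈ M := by
        have := Subgroup.Characteristic.fixed hchar ψ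
        rw [← this] at hm'
        exact inv_mem hm' |> fun h => by simpa using h
      have hy := horth _ (mul_mem hψ hm') e he
      have hre : gv r.1 e = e := by
        rw [hr, orth_symm (herm hF) hwe]; simp
      set u := act (m' : SUT) e with hu
      have hcalc : B (act ((ψ m'⁻¹ * m' : ↥(sj q J)) : SUT) e) e
          = B u u - (2 * B u w / Q) * B w u := by
        rw [Subgroup.coe_mul, act_mul, ← hu]
        show B (act (suConjFun r ((m'⁻¹ : ↥(sj q J)) : SUT)) u) e = _
        rw [act_suConjFun]
        conv_lhs => rw [← hre, gu_form]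
        rw [hr', InvMemClass.coe_inv, ← act_form (m' : SUT), act_inv_cancel, ← hu, (herm hF).sub_left,
          (herm hF).smul_left]
      have hiu := hJ.iso_act hF m'.2 he
      rw [hcalc, hiu.2.2, hJ.form_symm hF hiu.1 hw, hδ, one_mul, zero_sub, neg_eq_zero, div_mul_eq_mul_div,
        div_eq_zero_iff, or_iff_left hww, mul_eq_zero, mul_eq_zero] at hy
      rcases hy with (h | h) | h
      · exact absurd h h2
      · exact h
      · exact h
    -- every point is fixed
    have hfix : ∀ m' ∈ M, ∀ e : V, hJ.Iso hF e → ∃ a : F, a ^ q = a ∧ act (m' : SUT) e = a • e := by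
      intro m' hm' e he
      obtain ⟨f, hf, hb⟩ := hJ.exists_pair hF h2 he
      obtain ⟨w₀, hw₀, hw₀e, hw₀f, hw₀₀⟩ := hJ.exists_aniso_perp hF hn h2 hδ he hf hb
      have hiu := hJ.iso_act hF m'.2 he
      obtain ⟨s, t, z, hs, -, hz, hze, hzf, hx⟩ := hJ.exists_split hF he hf hb hiu.1
      have ht : t = 0 := by
        have h1 := horth m' hm' e he
        rw [hx, (herm hF).add_left, (herm hF).add_left, (herm hF).smul_left, (herm hF).smul_left,
          he.2.2, hze, mul_zero, zero_add, add_zero, mul_eq_zero] at h1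
        exact h1.resolve_right fun h => hb (orth_symm (herm hF) h)
      subst ht
      rw [zero_smul, add_zero] at hx
      have haniso : ∀ w, J w = w → B w e = 0 → B w f = 0 → B w w ≠ 0 → B z w = 0 := by
        intro w hw hwe hwf hww
        have h1 := hperp m' hm' e he w hw hwe hww
        rwa [hx, (herm hF).add_left, (herm hF).smul_left, orth_symm (herm hF) hwe, mul_zero,
          zero_add] at h1
      have hz0 : z = 0 := by
        refine hJ.eq_zero_of_orth hF h2 fun y hy => ?_
        obtain ⟨s', t', w, -, -, hw, hwe, hwf, rfl⟩ := hJ.exists_split hF he hf hb hy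
        rw [(herm hF).add_right, (herm hF).add_right, smul_right' hF, smul_right' hF, hze, hzf, mul_zero,
          mul_zero, zero_add, zero_add]
        by_cases hww : B w w = 0
        swap
        · exact haniso w hw hwe hwf hww
        have h0 := haniso w₀ hw₀ hw₀e hw₀f hw₀₀
        by_cases hsum : B (w + w₀) (w + w₀) = 0
        · have hdiff : B (w - w₀) (w - w₀) ≠ 0 := by
            intro hd
            apply hw₀₀
            have h4 : B (w + w₀) (w + w₀) + B (w - w₀) (w - w₀) = 2 * (B w w + B w₀ w₀) := by
              simp only [(herm hF).add_left, (herm hF).add_right, (herm hF).sub_left, (herm hF).sub_right]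
              ring
            rw [hsum, hd, hww, zero_add, zero_add, eq_comm, mul_eq_zero] at h4
            exact h4.resolve_left h2
          have := haniso (w - w₀) (hJ.real_sub hF hw hw₀) (by rw [(herm hF).sub_left, hwe, hw₀e, sub_zero])
            (by rw [(herm hF).sub_left, hwf, hw₀f, sub_zero]) hdiff
          rwa [(herm hF).sub_right, h0, sub_zero] at this
        · have := haniso (w + w₀) (hJ.real_add hF hw hw₀) (by rw [(herm hF).add_left, hwe, hw₀e, add_zero])
            (by rw [(herm hF).add_left, hwf, hw₀f, add_zero]) hsum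
          rwa [(herm hF).add_right, h0, add_zero] at this
      exact ⟨s, hs, by rw [hx, hz0, add_zero]⟩
    -- one scalar
    obtain ⟨e, he⟩ := hJ.exists_iso hF hn h2
    obtain ⟨f, hf, hb⟩ := hJ.exists_pair hF h2 he
    obtain ⟨l, hlq, hl⟩ := hfix m hm e he
    obtain ⟨μ, hμq, hμ⟩ := hfix m hm f hf
    obtain ⟨μ', -, hμ'⟩ := hfix m⁻¹ (inv_mem hm) f hf
    obtain ⟨l', -, hl'⟩ := hfix m⁻¹ (inv_mem hm) e he
    obtain ⟨w₀, hw₀, hw₀e, hw₀f, hw₀₀⟩ := hJ.exists_aniso_perp hF hn h2 hδ he hf hb
    have hwfix : ∀ w, J w = w → B w e = 0 → B w f = 0 → B w w ≠ 0 →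
        μ = l ∧ act (m : SUT) w = l • w := by
      intro w hw hwe hwf hww
      have hfe : B f e = B e f := by rw [hJ.form_symm hF he.1 hf.1, hδ, one_mul]
      set k : F := -(B w w) / (2 * B e f) with hk
      have hkq : k ^ q = k := by
        rw [hk, ← Forms.qPowHom_apply hF, map_div₀, _root_.map_neg, map_mul, map_ofNat,
          Forms.qPowHom_apply, Forms.qPowHom_apply, qpow_self hF w, hJ.real_form_one hF hδ he.1 hf.1]
      have hk0 : k ≠ 0 := by
        rw [hk]; exact div_ne_zero (neg_ne_zero.2 hww) (mul_ne_zero h2 hb)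
      set x := k • e + f + w with hx
      have hxe : B x e = B e f := by
        rw [hx, (herm hF).add_left, (herm hF).add_left, (herm hF).smul_left, he.2.2, hwe, hfe]; simp
      have hxI : hJ.Iso hF x := by
        refine ⟨?_, fun h0 => hb (by rw [← hxe, h0, (herm hF).zero_left]), ?_⟩
        · exact hJ.real_add hF (hJ.real_add hF (hJ.real_smul hF hkq he.1) hf.1) hw
        · simp only [hx, (herm hF).add_left, (herm hF).add_right, (herm hF).smul_left, smul_right' hF,
            he.2.2, hf.2.2, hwe, hwf, orth_symm (herm hF) hwe, orth_symm (herm hF) hwf, hfe, hkq]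
          rw [hk]
          field_simp
          ring
      obtain ⟨ν, -, hν⟩ := hfix m hm x hxI
      have hmw : act (m : SUT) w = (ν * k - k * l) • e + (ν - μ) • f + ν • w := by
        have h1 : act (m : SUT) x = k • act (m : SUT) e + act (m : SUT) f + act (m : SUT) w := by
          rw [hx]; simp [act]
        rw [hν, hl, hμ, hx] at h1
        linear_combination (norm := module) -h1
      have h3 : B (act (m : SUT) w) f = 0 := by
        rw [← act_inv_cancel (m : SUT) f, act_form, ← InvMemClass.coe_inv, hμ', smul_right' hF, hwf, mul_zero]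
      have h4 : B (act (m : SUT) w) e = 0 := by
        rw [← act_inv_cancel (m : SUT) e, act_form, ← InvMemClass.coe_inv, hl', smul_right' hF, hwe, mul_zero]
      rw [hmw] at h3 h4
      simp only [(herm hF).add_left, (herm hF).smul_left, he.2.2, hf.2.2, hwe, hwf, mul_zero, add_zero,
        zero_add, mul_eq_zero, hb, hfe, or_false] at h3 h4
      have hνμ : ν = μ := sub_eq_zero.1 h4
      have hνl : ν = l := mul_right_cancel₀ hk0 (by linear_combination h3)
      refine ⟨hνμ.symm.trans hνl, ?_⟩
      rw [hmw, h3, h4, hνl]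
      simp
    obtain ⟨hμl, hmw₀⟩ := hwfix w₀ hw₀ hw₀e hw₀f hw₀₀
    subst hμl
    have hsq : μ * μ = 1 := by
      have h5 : B (act (m : SUT) e) (act (m : SUT) f) = B e f := act_form _ _ _
      rw [hl, hμ, (herm hF).smul_left, smul_right' hF, hμq, ← mul_assoc] at h5
      exact mul_right_cancel₀ hb (h5.trans (one_mul _).symm)
    have hperpfix : ∀ w, J w = w → B w e = 0 → B w f = 0 → act (m : SUT) w = μ • w := by
      intro w hw hwe hwf
      by_cases hww : B w w = 0
      swap
      · exact (hwfix w hw hwe hwf hww).2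
      by_cases hsum : B (w + w₀) (w + w₀) = 0
      · have hdiff : B (w - w₀) (w - w₀) ≠ 0 := by
          intro hd
          apply hw₀₀
          have h4 : B (w + w₀) (w + w₀) + B (w - w₀) (w - w₀) = 2 * (B w w + B w₀ w₀) := by
            simp only [(herm hF).add_left, (herm hF).add_right, (herm hF).sub_left, (herm hF).sub_right]
            ring
          rw [hsum, hd, hww, zero_add, zero_add, eq_comm, mul_eq_zero] at h4
          exact h4.resolve_left h2
        have h6 := (hwfix (w - w₀) (hJ.real_sub hF hw hw₀) (by rw [(herm hF).sub_left, hwe, hw₀e, sub_zero])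
          (by rw [(herm hF).sub_left, hwf, hw₀f, sub_zero]) hdiff).2
        rw [act_sub,
          hmw₀, smul_sub, sub_left_inj] at h6
        exact h6
      · have h6 := (hwfix (w + w₀) (hJ.real_add hF hw hw₀) (by rw [(herm hF).add_left, hwe, hw₀e, add_zero])
          (by rw [(herm hF).add_left, hwf, hw₀f, add_zero]) hsum).2
        rw [act_add,
          hmw₀, smul_add, add_left_inj] at h6
        exact h6
    have hmv : act (m : SUT) v = μ • v := by
      obtain ⟨s, t, w, -, -, hw, hwe, hwf, rfl⟩ := hJ.exists_split hF he hf hb hv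
      simp only [act, _root_.map_add, _root_.map_smul]
      show s • act (m : SUT) e + t • act (m : SUT) f + act (m : SUT) w = _
      rw [hl, hμ, hperpfix w hw hwe hwf]
      module
    rw [hmv, act_smul, hmv, smul_smul,
      hsq, one_smul]

end IsRealForm

end Cfsg.Agent.Lib.PSUBalance
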