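import Cfsg.Agent.Lib.PSUField.Main
import Cfsg.Agent.Lib.PSUAut.Structure
import Cfsg.Agent.Lib.LocalBalance.Criterion
import Cfsg.Agent.Lib.PSpAut.FieldBalance
import Cfsg.Agent.Lib.PSUThreeTwo.Structure

/-!
# Local balance at a field automorphism of odd prime order of `PSU_n(q)`

The unitary group over the fixed field plays the part of the subgroup of fixed points.
-/

set_option autoImplicit false

namespace Cfsg.Agent.Lib.PSUBalance

open Matrix PSUAut FieldDescent
open scoped MatrixGroups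

/-! ### Normal subgroups of `PSU_3(2)` of order prime to three -/

theorem quad_quat_centralizes : ∀ g : QuaternionGroup 2, g ≠ 1 → ∃ y, ∀ s : Golay.Quad,
    PSUThreeTwo.quatMat g * PSUThreeTwo.monoMat y ≠ s • (PSUThreeTwo.monoMat y * PSUThreeTwo.quatMat g) := by
  decide +kernel

theorem psu32_model (M : Subgroup (Cfsg.PSU 3 Golay.Quad 2)) [hM : M.Normal]
    (hco : (Nat.card ↥M).Coprime 3) : M = ⊥ := by
  haveI hN := PSUThreeTwo.monoHom_range_normal
  set N := PSUThreeTwo.monoHom.range
  have hcN : Nat.card ↥N = 9 := by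
    rw [← Nat.card_congr (MonoidHom.ofInjective PSUThreeTwo.monoHom_injective).toEquiv,
      Nat.card_congr Multiplicative.toAdd, Nat.card_prod, Nat.card_zmod]
  have hinf : ∀ x, x ∈ M → x ∈ N → x = 1 := fun x hx hx' => by
    refine orderOf_eq_one_iff.1 (Nat.eq_one_of_dvd_coprimes (show (Nat.card ↥M).Coprime 9 from
      (Nat.Coprime.pow_right 2 hco)) ?_ ?_)
    · rw [← Subgroup.orderOf_mk _ hx]; exact orderOf_dvd_natCard _
    · rw [← hcN, ← Subgroup.orderOf_mk _ hx']; exact orderOf_dvd_natCard _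
  refine (Subgroup.eq_bot_iff_forall _).2 fun m hm => hinf m hm ?_
  -- every element is a product
  have hinj : Function.Injective fun a : Multiplicative (ZMod 3 × ZMod 3) × QuaternionGroup 2 =>
      PSUThreeTwo.monoHom a.1 * PSUThreeTwo.quatHom a.2 := by
    rintro ⟨x, g⟩ ⟨x', g'⟩ h
    simp only at h
    have h1 : PSUThreeTwo.quatHom (g * g'⁻¹) = PSUThreeTwo.monoHom (x⁻¹ * x') := by
      rw [map_mul, map_mul, map_inv, map_inv, eq_inv_mul_iff_mul_eq, ← mul_assoc, h, mul_assoc,
        mul_inv_cancel, mul_one]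
    have hg : g = g' := mul_inv_eq_one.1 (PSUThreeTwo.quatHom_mem_range ⟨_, h1.symm⟩)
    subst hg
    exact congrArg (·, g) (PSUThreeTwo.monoHom_injective (mul_right_cancel h))
  have hbij := (Nat.bijective_iff_injective_and_card _).2 ⟨hinj, by
    rw [Nat.card_prod, Nat.card_congr Multiplicative.toAdd, Nat.card_prod, Nat.card_zmod,
      Nat.card_eq_fintype_card, QuaternionGroup.card, PSUThreeTwo.natCard_psu]⟩
  obtain ⟨⟨x, g⟩, hxg⟩ := hbij.2 m
  have hcomm : ∀ y, m * PSUThreeTwo.monoHom y = PSUThreeTwo.monoHom y * m := fun y => by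
    have h1 : m * PSUThreeTwo.monoHom y * m⁻¹ * (PSUThreeTwo.monoHom y)⁻¹ = 1 := by
      refine hinf _ ?_ (mul_mem (hN.conj_mem _ ⟨y, rfl⟩ m) (inv_mem ⟨y, rfl⟩))
      rw [mul_assoc, mul_assoc]
      exact mul_mem hm (by rw [← mul_assoc]; exact hM.conj_mem _ (inv_mem hm) _)
    exact mul_inv_eq_iff_eq_mul.1 (mul_inv_eq_one.1 h1)
  have hg : g = 1 := by
    by_contra hne
    obtain ⟨y, hy⟩ := quad_quat_centralizes g hne
    have h2 := hcomm (Multiplicative.ofAdd y)
    rw [← hxg] at h2
    simp only at h2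
    have hab : PSUThreeTwo.monoHom x * PSUThreeTwo.monoHom (Multiplicative.ofAdd y)
        = PSUThreeTwo.monoHom (Multiplicative.ofAdd y) * PSUThreeTwo.monoHom x := by
      rw [← map_mul, ← map_mul, mul_comm]
    rw [← mul_assoc, ← hab, mul_assoc, mul_assoc, mul_right_inj] at h2
    obtain ⟨s, hs⟩ := PSUThreeTwo.smul_of_mk_eq
      (g := PSUThreeTwo.suOf (PSUThreeTwo.monoMat y) (PSUThreeTwo.isSU_mono _) *
        PSUThreeTwo.suOf (PSUThreeTwo.quatMat g) (PSUThreeTwo.isSU_quat _))
      (h := PSUThreeTwo.suOf (PSUThreeTwo.quatMat g) (PSUThreeTwo.isSU_quat _) *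
        PSUThreeTwo.suOf (PSUThreeTwo.monoMat y) (PSUThreeTwo.isSU_mono _)) h2.symm
    exact hy s hs
  exact ⟨x, by rw [← hxg, hg]; simp⟩

variable {F : Type*} [Field F] {n q : ℕ}

local notation "V" => (Fin n → F)
local notation "SUT" => (SUType n F q)
local notation "B" => Cfsg.hermForm n F q

theorem isSimpleGroup_psu_of_le [Fintype F] (hF : Fintype.card F = q ^ 2) (hn : 3 ≤ n)
    (h32 : ¬ (n = 3 ∧ q = 2)) : IsSimpleGroup (Cfsg.PSU n F q) := by
  obtain ⟨k, rfl⟩ : ∃ k, n = k + 2 := ⟨n - 2, by omega⟩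
  exact Classical.isSimpleGroup_PSU hF k (by omega) fun h => h32 ⟨by omega, h.2⟩

/-- A prime dividing `|GU_n(q)|` divides `|PSU_n(q)|` when `n ≥ 3`. -/
theorem dvd_card_psu [Fintype F] (hF : Fintype.card F = q ^ 2) (hn : 3 ≤ n) {p : ℕ} (hp : p.Prime)
    (h : p ∣ Nat.card ↥(Cfsg.GU n F q)) : p ∣ Nat.card (Cfsg.PSU n F q) := by
  classical
  haveI : Fact p.Prime := ⟨hp⟩
  by_cases hq : p ∣ q + 1
  · obtain ⟨a, ha⟩ := exists_prime_orderOf_dvd_card' (G := ↥(PSUField.normOne F q)) p
      (by rw [PSUField.natCard_normOne_units hF]; exact hq)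
    set i : Fin n := ⟨0, by omega⟩
    set j : Fin n := ⟨1, by omega⟩
    set l : Fin n := ⟨2, by omega⟩
    have hij : i ≠ j := by simp [i, j, Fin.ext_iff]
    let d : Fin n → Fˣ := Function.update (Function.update (fun _ => 1) i (a : Fˣ)) j (a : Fˣ)⁻¹
    have hd1 : ∀ k, (d k) ^ (q + 1) = 1 := fun k => by
      have := PSUField.mem_normOne.1 a.2
      by_cases hkj : k = j
      · subst hkj; simp [d, this]
      · by_cases hki : k = i
        · subst hki; simp [d, Function.update_of_ne hij, this]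
        · simp [d, Function.update_of_ne hkj, Function.update_of_ne hki]
    have hdet : (Matrix.diagonal fun k => ((d k : Fˣ) : F)).det = 1 := by
      rw [Matrix.det_diagonal, ← Finset.mul_prod_erase _ _ (Finset.mem_univ i),
        ← Finset.mul_prod_erase _ _ (Finset.mem_erase.2 ⟨hij.symm, Finset.mem_univ j⟩),
        Finset.prod_eq_one fun k hk => by
          simp only [Finset.mem_erase, ne_eq] at hk
          simp [d, Function.update_of_ne hk.1, Function.update_of_ne hk.2.1]]
      simp [d, Function.update_of_ne hij]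
    have hmem : (⟨_, hdet⟩ : Matrix.SpecialLinearGroup (Fin n) F) ∈ Cfsg.SU n F q := by
      intro u v
      show B ((Matrix.diagonal fun k => ((d k : Fˣ) : F)) *ᵥ u)
        ((Matrix.diagonal fun k => ((d k : Fˣ) : F)) *ᵥ v) = B u v
      simp only [Cfsg.hermForm, Matrix.mulVec_diagonal]
      refine Finset.sum_congr rfl fun k _ => ?_
      have : ((d k : Fˣ) : F) * ((d k : Fˣ) : F) ^ q = 1 := by
        rw [← pow_succ', ← Units.val_pow_eq_pow_val, hd1, Units.val_one]
      rw [mul_pow]
      linear_combination (u k * v k ^ q) * this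
    let s : SUT := ⟨⟨_, hdet⟩, hmem⟩
    have hsp : s ^ p = 1 := by
      refine Subtype.ext (Subtype.ext ?_)
      rw [SubmonoidClass.coe_pow, Matrix.SpecialLinearGroup.coe_pow]
      show (Matrix.diagonal fun k => ((d k : Fˣ) : F)) ^ p = 1
      rw [Matrix.diagonal_pow, ← Matrix.diagonal_one]
      have hap : ((a : Fˣ)) ^ p = 1 := by
        rw [← ha, ← Subgroup.orderOf_coe, pow_orderOf_eq_one]
      refine congrArg _ (funext fun k => ?_)
      rw [Pi.pow_apply, ← Units.val_pow_eq_pow_val]
      by_cases hkj : k = j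
      · subst hkj; simp [d, hap]
      · by_cases hki : k = i
        · subst hki; simp [d, Function.update_of_ne hij, hap]
        · simp [d, Function.update_of_ne hkj, Function.update_of_ne hki]
    have hne : proj s ≠ 1 := fun h1 => by
      rw [proj_apply, QuotientGroup.eq_one_iff] at h1
      have hz := congrFun (congrFun (Classical.center_SU_scalar hF _ h1 l) i) i
      have hli : l ≠ i := by simp [i, l, Fin.ext_iff]
      have hlj : l ≠ j := by simp [j, l, Fin.ext_iff]
      simp [s, Matrix.diagonal_apply_eq, d, Function.update_of_ne hij, Function.update_of_ne hli,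
        Function.update_of_ne hlj] at hz
      have : a = 1 := hz
      rw [this, orderOf_one] at ha
      exact hp.one_lt.ne ha
    have hord : orderOf (proj s) = p := orderOf_eq_prime (by rw [← map_pow, hsp, map_one]) hne
    rw [← hord]
    exact orderOf_dvd_natCard _
  · have h1 := h
    rw [← Classical.succ_mul_natCard_SU hF n (by omega)] at h1
    have h2 := (hp.dvd_mul.1 h1).resolve_left hq
    rw [Subgroup.card_eq_card_quotient_mul_card_subgroup (Subgroup.center (Cfsg.SU n F q)),
      Classical.natCard_center_SU hF n (by omega)] at h2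
    exact (hp.dvd_mul.1 h2).resolve_right fun h3 => hq (h3.trans (Nat.gcd_dvd_right _ _))

/-- A normal subgroup of `PSU` of order prime to `p` is trivial when `p` divides `|GU|`. -/
theorem psu_normal_coprime [Fintype F] (hF : Fintype.card F = q ^ 2) (hn : 3 ≤ n) {p : ℕ} (hp : p.Prime)
    (hp2 : p ≠ 2) (h : p ∣ Nat.card ↥(Cfsg.GU n F q)) (M : Subgroup (Cfsg.PSU n F q)) [hM : M.Normal]
    (hco : (Nat.card ↥M).Coprime p) : M = ⊥ := by
  have hdvd := dvd_card_psu hF hn hp h
  by_cases h32 : n = 3 ∧ q = 2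
  · obtain ⟨rfl, rfl⟩ := h32
    obtain ⟨e⟩ : Nonempty (F ≃+* Golay.Quad) :=
      ⟨FiniteField.ringEquivOfCardEq (by rw [hF]; exact Golay.card_quad.symm)⟩
    let φ := PSUThreeTwo.psuMap (n := 3) (q := 2) e
    have hp3 : p = 3 := by
      rw [Nat.card_congr φ.toEquiv, PSUThreeTwo.natCard_psu] at hdvd
      rcases hp.dvd_mul.1 (show p ∣ 2 ^ 3 * 3 ^ 2 by simpa using hdvd) with h | h
      · exact absurd ((Nat.prime_dvd_prime_iff_eq hp Nat.prime_two).1 (hp.dvd_of_dvd_pow h)) hp2
      · exact (Nat.prime_dvd_prime_iff_eq hp Nat.prime_three).1 (hp.dvd_of_dvd_pow h)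
    subst hp3
    haveI : (M.map φ.toMonoidHom).Normal := hM.map _ φ.surjective
    exact (Subgroup.map_eq_bot_iff_of_injective _ φ.injective).1
      (psu32_model (M.map φ.toMonoidHom) (by rwa [Subgroup.card_map_of_injective (f := φ.toMonoidHom) φ.injective]))
  · haveI := isSimpleGroup_psu_of_le hF hn h32
    refine (IsSimpleGroup.eq_bot_or_eq_top_of_normal M hM).resolve_right fun h => ?_
    rw [h, Subgroup.card_top] at hco
    exact hp.ne_one (Nat.eq_one_of_dvd_coprimes hco hdvd dvd_rfl)

/-! ### The group over the fixed field -/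

variable [Fintype F] (hF : Fintype.card F = q ^ 2) (hn : 3 ≤ n) {q₀ r : ℕ} (hr : Odd r)
  (hq : q = q₀ ^ r) (σ : F ≃+* F) (hσ : orderOf σ = r)
include hF hn hr hq hσ

theorem inclSU_mem (s : SUType n ↥(fixedField σ) q₀) :
    (Matrix.SpecialLinearGroup.map (fixedField σ).subtype s.1) ∈ Cfsg.SU n F q := by
  have h := (mem_GU_map_iff hr hq hF σ hσ (Matrix.SpecialLinearGroup.toGL s.1)).2 s.2
  intro u v
  exact h u v

/-- `SU` over the fixed field inside `SU`. -/
def inclSU : SUType n ↥(fixedField σ) q₀ →* SUT where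
  toFun s := ⟨_, inclSU_mem hF hn hr hq σ hσ s⟩
  map_one' := Subtype.ext (map_one (Matrix.SpecialLinearGroup.map (n := Fin n) (fixedField σ).subtype))
  map_mul' s t := Subtype.ext (map_mul (Matrix.SpecialLinearGroup.map (fixedField σ).subtype) s.1 t.1)

theorem inclSU_injective : Function.Injective (inclSU (n := n) hF hn hr hq σ hσ) := fun s t h =>
  Subtype.ext (Subtype.ext (Matrix.map_injective (fixedField σ).subtype_injective
    (congrArg (fun x : SUT => (x.1 : Matrix (Fin n) (Fin n) F)) h)))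

theorem inclSU_fixed (s : SUType n ↥(fixedField σ) q₀) :
    suFieldFun σ (inclSU hF hn hr hq σ hσ s) = inclSU hF hn hr hq σ hσ s := by
  refine Subtype.ext (Subtype.ext ?_)
  ext i j
  exact ((s.1 : Matrix (Fin n) (Fin n) ↥(fixedField σ)) i j).2

theorem exists_inclSU {s : SUT} (h : suFieldFun σ s = s) : ∃ s₀, inclSU hF hn hr hq σ hσ s₀ = s := by
  have hij : ∀ i j, (s.1 : Matrix (Fin n) (Fin n) F) i j ∈ fixedField σ := fun i j => by
    show σ _ = _
    conv_rhs => rw [← h]
    rfl
  let M : Matrix (Fin n) (Fin n) ↥(fixedField σ) := Matrix.of fun i j => ⟨_, hij i j⟩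
  have hM : M.map (fixedField σ).subtype = (s.1 : Matrix (Fin n) (Fin n) F) := by ext i j; rfl
  have hdet : M.det = 1 := (fixedField σ).subtype_injective (by
    rw [RingHom.map_det, map_one]; exact (congrArg Matrix.det hM).trans s.1.2)
  let M₁ : Matrix.SpecialLinearGroup (Fin n) ↥(fixedField σ) := ⟨M, hdet⟩
  have hmem : Matrix.SpecialLinearGroup.toGL M₁ ∈ Cfsg.GU n ↥(fixedField σ) q₀ := by
    rw [← mem_GU_map_iff hr hq hF σ hσ]
    intro u v
    show B (M.map (fixedField σ).subtype *ᵥ u) (M.map (fixedField σ).subtype *ᵥ v) = B u v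
    rw [hM]
    exact s.2 u v
  exact ⟨⟨M₁, hmem⟩, Subtype.ext (Subtype.ext hM)⟩

/-- `PSU` over the fixed field inside `PSU`. -/
noncomputable def inclPSU : Cfsg.PSU n ↥(fixedField σ) q₀ →* Cfsg.PSU n F q :=
  QuotientGroup.lift _ (proj.comp (inclSU hF hn hr hq σ hσ)) fun s hs => by
    haveI : Fintype ↥(fixedField σ) := Fintype.ofFinite _
    have hF₀ : Fintype.card ↥(fixedField σ) = q₀ ^ 2 := by
      rw [← Nat.card_eq_fintype_card, card_fixed_eq hr hq hF σ hσ]
    have hd := Classical.center_SU_scalar hF₀ s hs ⟨0, by omega⟩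
    rw [MonoidHom.mem_ker, MonoidHom.comp_apply, proj_apply, QuotientGroup.eq_one_iff]
    refine mem_center_of_scalar
      (a := (((s.1 : Matrix (Fin n) (Fin n) ↥(fixedField σ)) ⟨0, by omega⟩ ⟨0, by omega⟩ :
        ↥(fixedField σ)) : F)) fun v => ?_
    rw [act, Classical.suLinear_apply]
    show (s.1 : Matrix (Fin n) (Fin n) ↥(fixedField σ)).map (fixedField σ).subtype *ᵥ v = _
    conv_lhs => rw [hd]
    rw [Matrix.diagonal_map (map_zero _)]
    funext i
    simp [Matrix.mulVec_diagonal]

theorem inclPSU_proj (s : SUType n ↥(fixedField σ) q₀) :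
    inclPSU hF hn hr hq σ hσ (proj s) = proj (inclSU hF hn hr hq σ hσ s) := rfl

theorem inclPSU_injective : Function.Injective (inclPSU (n := n) hF hn hr hq σ hσ) := by
  rw [injective_iff_map_eq_one]
  intro x hx
  obtain ⟨s, rfl⟩ := proj_surjective x
  rw [inclPSU_proj, proj_apply, QuotientGroup.eq_one_iff] at hx
  rw [proj_apply, QuotientGroup.eq_one_iff, Subgroup.mem_center_iff]
  intro t
  refine inclSU_injective hF hn hr hq σ hσ ?_
  rw [map_mul, map_mul]
  exact Subgroup.mem_center_iff.1 hx _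

theorem range_inclPSU : (inclPSU (n := n) hF hn hr hq σ hσ).range
    = (MonoidHom.eqLocus (suField σ : MulAut SUT).toMonoidHom (MonoidHom.id SUT)).map proj := by
  ext x
  constructor
  · rintro ⟨y, rfl⟩
    obtain ⟨s, rfl⟩ := proj_surjective y
    exact ⟨_, inclSU_fixed hF hn hr hq σ hσ s, rfl⟩
  · rintro ⟨s, hs, rfl⟩
    obtain ⟨s₀, rfl⟩ := exists_inclSU hF hn hr hq σ hσ hs
    exact ⟨proj s₀, rfl⟩

/-- An automorphism fixing the rational Eichler elements is a field automorphism over the fixed field. -/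
theorem eq_fieldAut_of_fix {c' : ℕ} [Fact c'.Prime] [CharP F c'] (a : MulAut (Cfsg.PSU n F q))
    (hdec : ∃ (g : GUType n F q) (τ : F ≃+* F), a = conj g * fieldAut τ)
    (hfix : ∀ (e w : V) (c : F), sv σ e = e → sv σ w = w → σ c = c → B e e = 0 → B w e = 0 →
      c + c ^ q + B w w = 0 → a (proj (eich e w c : SUT)) = proj (eich e w c)) :
    ∃ τ : F ≃+* F, (∀ y : F, σ y = y → τ y = y) ∧ a = fieldAut τ := by
  classical
  obtain ⟨g, τ, rfl⟩ := hdec
  haveI : Fintype ↥(fixedField σ) := Fintype.ofFinite _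
  have hF₀ : Fintype.card ↥(fixedField σ) = q₀ ^ 2 := by
    rw [← Nat.card_eq_fintype_card, card_fixed_eq hr hq hF σ hσ]
  let ι : (Fin n → ↥(fixedField σ)) → V := fun u i => (u i : F)
  have hιB : ∀ u v, B (ι u) (ι v) = ((Cfsg.hermForm n ↥(fixedField σ) q₀ u v : ↥(fixedField σ)) : F) := by
    intro u v
    simp only [Cfsg.hermForm, ι]
    rw [AddSubmonoidClass.coe_finset_sum]
    refine Finset.sum_congr rfl fun i _ => ?_
    have h1 := congrArg Subtype.val (fixed_pow_q hr hq hF σ hσ (v i))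
    push_cast at h1 ⊢
    rw [h1]
  have hιfix : ∀ u, sv σ (ι u) = ι u := fun u => funext fun i => (u i).2
  obtain ⟨e₀, he₀, he₀e⟩ := exists_isotropic_vec hF₀ hn
  obtain ⟨f₀, hp₀⟩ := exists_hyp hF₀ he₀ he₀e
  obtain ⟨w₀, hw₀, hw₀e, hw₀f⟩ := exists_orth_pair hF₀ hn e₀ f₀
  set e := ι e₀
  set f := ι f₀
  have hp : IsHyp B e f := ⟨by rw [hιB, hp₀.ee]; rfl, by rw [hιB, hp₀.ff]; rfl, by rw [hιB, hp₀.ef]; rfl⟩
  have hse : sv σ e = e := hιfix e₀
  have hsf : sv σ f = f := hιfix f₀
  obtain ⟨d₀, hd₀0, hd₀⟩ := exists_skew' hF₀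
  have hfix_pow : ∀ x : F, σ x = x → x ^ q = x ^ q₀ := fun x hx => by
    have := congrArg Subtype.val (fixed_pow_q hr hq hF σ hσ ⟨x, hx⟩)
    push_cast at this
    exact this
  set d : F := (d₀ : F)
  have hd0 : d ≠ 0 := fun h => hd₀0 (Subtype.ext h)
  have hdσ : σ d = d := d₀.2
  have hd : d + d ^ q = 0 := by
    rw [hfix_pow d hdσ]
    have := congrArg Subtype.val hd₀
    push_cast at this
    exact this
  -- the equation coming from an Eichler element
  have hD : ∀ (e w : V) (c : F), sv σ e = e → sv σ w = w → σ c = c → B e e = 0 → B w e = 0 →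
      c + c ^ q + B w w = 0 → ∀ x,
      τ (B x e) • semi g τ w + τ (c * B x e - B x w) • semi g τ e
        = B (semi g τ x) e • w + (c * B (semi g τ x) e - B (semi g τ x) w) • e := by
    intro e w c he hw hc hee hwe hcw x
    have h := hfix e w c he hw hc hee hwe hcw
    rw [ind_proj, ind_eich hF g τ hee hwe hcw] at h
    have heq := eich_eq_of_proj_eq (p := c') hF (by omega) (by rw [semi_form, hee, map_zero])
      (by rw [semi_form, hwe, map_zero]) (by rw [semi_form, ← map_pow, ← map_add, ← map_add, hcw, map_zero])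
      hee hwe hcw h
    have h1 := congrArg (fun s : SUT => act s (semi g τ x)) heq
    simp only [act_eich hF hee hwe hcw, act_eich hF (show B (semi g τ e) (semi g τ e) = 0 by
      rw [semi_form, hee, map_zero]) (show B (semi g τ w) (semi g τ e) = 0 by rw [semi_form, hwe, map_zero])
      (show τ c + τ c ^ q + B (semi g τ w) (semi g τ w) = 0 by
        rw [semi_form, ← map_pow, ← map_add, ← map_add, hcw, map_zero]), semi_form] at h1
    rw [add_assoc, add_assoc, add_right_inj] at h1
    rw [map_sub, map_mul]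
    exact h1
  have h0 : sv σ (0 : V) = 0 := funext fun i => map_zero σ
  have hsemi0 : semi g τ (0 : V) = 0 := by
    have := semi_smul g τ 0 (0 : V)
    rwa [smul_zero, map_zero, zero_smul] at this
  have hline : ∀ u u' : V, sv σ u = u → IsHyp B u u' → ∃ k : F, semi g τ u = k • u := by
    intro u u' hu hpu
    have h := hD u 0 d hu h0 hdσ hpu.ee ((herm hF).zero_left u) (by rw [(herm hF).zero_left, add_zero, hd]) u'
    rw [hsemi0, smul_zero, smul_zero, zero_add, zero_add, (herm hF).zero_right, sub_zero,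
      (herm hF).zero_right, sub_zero, hpu.fe (herm hF), mul_one] at h
    have hne : τ d ≠ 0 := fun h' => hd0 (τ.injective (h'.trans (map_zero τ).symm))
    exact ⟨(τ d)⁻¹ * (d * B (semi g τ u') u), by rw [mul_smul, ← h, inv_smul_smul₀ hne]⟩
  obtain ⟨lam, hlam⟩ := hline e f hse hp
  obtain ⟨κ, hκ⟩ := hline f e hsf (hp.symm' (herm hF))
  have he0 : e ≠ 0 := hp.left_ne_zero (herm hF)
  have hsemi_inj : ∀ u : V, semi g τ u = 0 → u = 0 := fun u h => funext fun i => by
    have h1 : sv τ u = 0 := by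
      rw [← gv_inv_cancel' g.1 (sv τ u), show gv g.1 (sv τ u) = semi g τ u from rfl, h]; simp [gv]
    exact τ.injective ((congrFun h1 i).trans (map_zero τ).symm)
  have hκ0 : κ ≠ 0 := fun h => hp.right_ne_zero (herm hF) (hsemi_inj f (by rw [hκ, h, zero_smul]))
  have h2eq : ∀ (w : V) (c : F), sv σ w = w → σ c = c → B w e = 0 → B w f = 0 →
      c + c ^ q + B w w = 0 → semi g τ w + (τ c * lam) • e = κ • w + (κ * c) • e := by
    intro w c hw hc hwe hwf hcw
    have h := hD e w c hse hw hc hp.ee hwe hcw f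
    rw [hlam, hκ, hp.fe (herm hF), map_one, one_smul, smul_smul, herm_smul_left', herm_smul_left',
      hp.fe (herm hF), orth_symm (herm hF) hwf, mul_zero, mul_one, mul_one, sub_zero, sub_zero,
      mul_comm c κ] at h
    exact h
  have hwscal : ∀ w : V, sv σ w = w → B w e = 0 → B w f = 0 → ∀ c : F, σ c = c →
      c + c ^ q + B w w = 0 → semi g τ w = κ • w + (κ * c - τ c * lam) • e := by
    intro w hw hwe hwf c hc hcw
    rw [sub_smul, ← add_sub_assoc, ← h2eq w c hw hc hwe hwf hcw, add_sub_cancel_right]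
  have hskew : ∀ c : F, σ c = c → c + c ^ q = 0 → τ c * lam = κ * c := by
    intro c hc hcw
    have h := h2eq 0 c h0 hc ((herm hF).zero_left e) ((herm hF).zero_left f)
      (by rw [(herm hF).zero_left, add_zero, hcw])
    rw [hsemi0, smul_zero, zero_add, zero_add] at h
    have := smul_left_injective F he0 h
    exact this
  -- perpendicular vectors
  have hperp : ∀ w₁ : Fin n → ↥(fixedField σ), Cfsg.hermForm n ↥(fixedField σ) q₀ w₁ e₀ = 0 →
      Cfsg.hermForm n ↥(fixedField σ) q₀ w₁ f₀ = 0 → semi g τ (ι w₁) = κ • ι w₁ := by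
    intro w₁ hwe hwf
    obtain ⟨c₁, hc₁⟩ := exists_fill' hF₀ w₁
    have hcw : (c₁ : F) + (c₁ : F) ^ q + B (ι w₁) (ι w₁) = 0 := by
      rw [hfix_pow _ c₁.2, hιB]
      have := congrArg Subtype.val hc₁
      push_cast at this
      exact this
    have hwe' : B (ι w₁) e = 0 := by rw [hιB, hwe]; rfl
    have hwf' : B (ι w₁) f = 0 := by rw [hιB, hwf]; rfl
    have h1 := hwscal _ (hιfix w₁) hwe' hwf' _ c₁.2 hcw
    have hneg : sv σ (-ι w₁) = -ι w₁ := funext fun i => by
      show σ (-(ι w₁ i)) = -(ι w₁ i)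
      rw [map_neg]; exact congrArg Neg.neg (congrFun (hιfix w₁) i)
    have h3 := hwscal (-ι w₁) hneg (by rw [(herm hF).neg_left, hwe', neg_zero])
      (by rw [(herm hF).neg_left, hwf', neg_zero]) _ c₁.2
      (by rw [(herm hF).neg_left, (herm hF).neg_right, neg_neg, hcw])
    have hsn : semi g τ (-ι w₁) = -semi g τ (ι w₁) := by
      rw [← neg_one_smul F (ι w₁), semi_smul, map_neg, map_one, neg_one_smul]
    rw [hsn, h1] at h3
    by_cases h22 : (2 : F) = 0
    · -- in characteristic two, add a skew element to the coefficient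
      set k : F := κ * c₁ - τ c₁ * lam
      suffices hk : k = 0 by rw [h1, hk, zero_smul, add_zero]
      by_contra hk
      -- the form of the image fixes the coefficient
      have hsf' : B (semi g τ (ι w₁)) (semi g τ f) = 0 := by rw [semi_form, hwf', map_zero]
      rw [h1, hκ, (herm hF).add_left, herm_smul_left', herm_smul_left', smul_right', smul_right', hwf',
        hp.ef, mul_zero, mul_zero, zero_add, mul_one, mul_eq_zero] at hsf'
      · exact hsf'.elim hk (pow_ne_zero _ hκ0)
      all_goals exact hF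
    · have : (2 : F) • ((κ * c₁ - τ c₁ * lam) • e) = 0 := by
        linear_combination (norm := module) -h3
      have hk := (smul_eq_zero.1 ((smul_eq_zero.1 this).resolve_left h22)).resolve_right he0
      rw [h1, hk, zero_smul, add_zero]
  -- `τ` fixes the fixed field
  have hτ : ∀ y : F, σ y = y → τ y = y := by
    intro y hy
    obtain ⟨y', rfl⟩ : ∃ y' : ↥(fixedField σ), (y' : F) = y := ⟨⟨y, hy⟩, rfl⟩
    have h1 := hperp w₀ hw₀e hw₀f
    have h3 := hperp (y' • w₀) (by rw [(herm hF₀).smul_left, hw₀e, mul_zero])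
      (by rw [(herm hF₀).smul_left, hw₀f, mul_zero])
    have hι : ι (y' • w₀) = (y' : F) • ι w₀ := funext fun i => rfl
    rw [hι, semi_smul, h1, smul_comm] at h3
    have hne : κ • ι w₀ ≠ 0 := smul_ne_zero hκ0 fun h => hw₀ (funext fun i => Subtype.ext (congrFun h i))
    refine smul_left_injective F hne ?_
    show τ (y' : F) • κ • ι w₀ = (y' : F) • κ • ι w₀
    rw [smul_comm (τ (y' : F)) κ, smul_comm (y' : F) κ]
    exact h3
  have hlamκ : lam = κ := by
    have h := hskew d hdσ hd
    rw [hτ d hdσ] at h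
    exact mul_left_cancel₀ hd0 (h.trans (mul_comm κ d))
  have hall : ∀ u : Fin n → ↥(fixedField σ), semi g τ (ι u) = κ • ι u := by
    intro u
    set s₁ := Cfsg.hermForm n ↥(fixedField σ) q₀ u f₀
    set t₁ := Cfsg.hermForm n ↥(fixedField σ) q₀ u e₀
    have hdec := decomp (Cfsg.hermForm n ↥(fixedField σ) q₀) e₀ f₀ u
    have hw := hp₀.wpart_mem (herm hF₀) u
    have hι : ι u = (s₁ : F) • e + (t₁ : F) • f + ι (wpart (Cfsg.hermForm n ↥(fixedField σ) q₀) e₀ f₀ u) := by
      conv_lhs => rw [hdec]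
      funext i
      simp [ι, e, f, s₁, t₁]
    rw [hι, semi_add, semi_add, semi_smul, semi_smul, hlam, hκ, hlamκ, hperp _ hw.1 hw.2, hτ _ s₁.2,
      hτ _ t₁.2]
    module
  refine ⟨τ, hτ, ?_⟩
  have hg : ∀ v : V, gv g.1 v = κ • v := by
    have hbasis : ∀ i : Fin n, gv g.1 (Pi.single i 1) = κ • (Pi.single i 1 : V) := fun i => by
      have h1 : ι (Pi.single i 1) = Pi.single i 1 := by
        funext k
        by_cases hk : k = i
        · subst hk; simp [ι]
        · simp [ι, hk]
      have h2 : sv τ (Pi.single i 1 : V) = Pi.single i 1 := by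
        funext k
        by_cases hk : k = i
        · subst hk; simp [sv]
        · simp [sv, hk]
      have := hall (Pi.single i 1)
      rwa [h1, semi, h2] at this
    intro v
    rw [show v = ∑ i, v i • (Pi.single i (1 : F) : V) from pi_eq_sum_univ' v]
    simp only [gv, Matrix.mulVec_sum, Finset.smul_sum]
    refine Finset.sum_congr rfl fun i _ => ?_
    rw [Matrix.mulVec_smul]
    show v i • gv g.1 (Pi.single i 1) = _
    rw [hbasis, smul_comm]
  rw [conj_eq_one_of_scalar g hg, one_mul]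
where
  herm_smul_left' (a : F) (u v : Fin n → F) :
      Cfsg.hermForm n F q (a • u) v = a * Cfsg.hermForm n F q u v := (herm hF).smul_left a u v

end Cfsg.Agent.Lib.PSUBalance
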