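import Cfsg.Agent.Lib.PSUBalance.NoOdd
import Cfsg.Agent.Lib.PSUBalance.Centraliser
import Cfsg.Agent.Lib.PSUBalance.OddCase
import Cfsg.Agent.Lib.PSUField.Assemble
import Cfsg.Agent.Lib.Burnside.Paqb

/-!
# Failure of local balance in `PSU_n(q)` at an automorphism outside `Inndiag`

For `p` odd the automorphism is conjugate to a field automorphism; for `p = 2` it is given by a real form,
and the core is trivial.
-/

set_option autoImplicit false

namespace Cfsg.Agent.Lib.PSUBalance

open Matrix PSUAut FieldDescent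
open scoped MatrixGroups

variable {F : Type*} [Field F] [Fintype F] {n q : ℕ} (hF : Fintype.card F = q ^ 2)

local notation "V" => (Fin n → F)
local notation "SUT" => (SUType n F q)
local notation "B" => Cfsg.hermForm n F q
local notation "K'" => (Cfsg.PSU n F q)

include hF

theorem noncomm (hn : 3 ≤ n) : ∃ a b : K', a * b ≠ b * a := by
  obtain ⟨p, hp⟩ := CharP.exists F
  haveI := hp
  haveI : Fact p.Prime := ⟨CharP.char_is_prime F p⟩
  obtain ⟨e, he0, he⟩ := exists_isotropic_vec hF hn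
  obtain ⟨f, hp'⟩ := exists_hyp hF he0 he
  obtain ⟨d, hd0, hd⟩ := exists_skew' hF
  refine ⟨tp e d, tp f d, fun h => ?_⟩
  have := (commute_tp_iff (p := p) hF hn he0 he (hp'.right_ne_zero (herm hF)) hp'.ff hd0 hd hd0 hd).1 h
  rw [hp'.fe (herm hF)] at this
  exact one_ne_zero this

theorem ne_three_two (hn : 3 ≤ n) (hK : IsSimpleGroup K') : ¬ (n = 3 ∧ q = 2) := by
  rintro ⟨rfl, rfl⟩
  obtain ⟨a, b, hab⟩ := noncomm hF hn
  obtain ⟨e⟩ : Nonempty (F ≃+* Golay.Quad) :=
    ⟨FiniteField.ringEquivOfCardEq (by rw [hF]; exact Golay.card_quad.symm)⟩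
  exact hab (Burnside.mul_comm_of_isSimpleGroup Nat.prime_two Nat.prime_three (a := 3) (b := 2)
    (by rw [Nat.card_congr (PSUThreeTwo.psuMap (n := 3) (q := 2) e).toEquiv, PSUThreeTwo.natCard_psu]; norm_num)
    a b)

theorem conj_injective_psu (hn : 3 ≤ n) (hK : IsSimpleGroup K') :
    Function.Injective (MulAut.conj : K' →* MulAut K') :=
  LocalBalance.conj_injective_of_center (LocalBalance.center_eq_bot_of_simple (noncomm hF hn))

theorem suFieldFun_eich (σ : F ≃+* F) {e w : V} {c : F} (he : B e e = 0) (hwe : B w e = 0)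
    (hc : c + c ^ q + B w w = 0) :
    suFieldFun σ (eich e w c : SUT) = eich (sv σ e) (sv σ w) (σ c) := by
  have h1 : ∀ v : V, semi (1 : GUType n F q) σ v = sv σ v := fun v => by simp [semi, gv]
  have h := ind_eich hF (1 : GUType n F q) σ he hwe hc
  rw [h1, h1] at h
  rw [← h]
  refine act_ext fun v => ?_
  rw [act_suConjFun]
  simp [gv]

/-! ### Odd primes -/

theorem core_field_iff (hn : 3 ≤ n) (hK : IsSimpleGroup K') {c₀ : ℕ} [Fact c₀.Prime] [CharP F c₀] {p : ℕ}
    (hp : p.Prime) (hpo : Odd p) {q₀ : ℕ} (hq : q = q₀ ^ p) (σ : F ≃+* F) (hσ : orderOf σ = p)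
    (A : Subgroup (MulAut K')) (hinn : ∀ k : K', MulAut.conj k ∈ A) :
    Cfsg.pPrimeCore p ↥(A ⊓ Subgroup.centralizer {(fieldAut σ : MulAut K')}) ≠ ⊥ ↔
      Nat.Coprime p (Nat.card ↥(MonoidHom.eqLocus (fieldAut σ : MulAut K').toMonoidHom (MonoidHom.id K'))) := by
  classical
  have h32 := ne_three_two hF hn hK
  have hinj := conj_injective_psu hF hn hK
  haveI : Fintype ↥(fixedField σ) := Fintype.ofFinite _
  have hF₀ : Fintype.card ↥(fixedField σ) = q₀ ^ 2 := by
    rw [← Nat.card_eq_fintype_card, card_fixed_eq hpo hq hF σ hσ]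
  set ι := inclPSU (n := n) hF hn hpo hq σ hσ with hι
  have hιfix : ∀ y, (fieldAut σ : MulAut K') (ι y) = ι y := fun y => by
    obtain ⟨s, rfl⟩ := proj_surjective y
    rw [hι, inclPSU_proj, fieldAut_proj, inclSU_fixed]
  constructor
  · intro hne
    rw [Nat.Prime.coprime_iff_not_dvd hp]
    intro hdvd
    apply hne
    haveI : Fact p.Prime := ⟨hp⟩
    have hGU : p ∣ Nat.card ↥(Cfsg.GU n ↥(fixedField σ) q₀) := by
      obtain ⟨z, hz⟩ := exists_prime_orderOf_dvd_card' p hdvd
      obtain ⟨e⟩ := PSUField.nonempty_centEquiv hF hn hpo hq σ hσ ↥(fixedField σ) hF₀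
      set C := Cfsg.inndiagPSU n F q ⊓ Subgroup.centralizer {(fieldAut σ : MulAut K')}
      obtain ⟨s, hs⟩ := proj_surjective (z : K')
      have hmem : MulAut.conj (z : K') ∈ C := by
        refine ⟨?_, (LocalBalance.conj_mem_centralizer (A := ⊤) (fun _ => Subgroup.mem_top _) z.2).2⟩
        show _ ∈ Cfsg.inndiagPSU n F q
        rw [inndiagPSU_eq_range, ← hs, ← conj_suToGU]
        exact ⟨_, rfl⟩
      have hord : orderOf (⟨_, hmem⟩ : ↥C) = p := by
        rw [Subgroup.orderOf_mk, orderOf_injective _ hinj, Subgroup.orderOf_coe, hz]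
      have h1 : p ∣ Nat.card (Cfsg.PGU n ↥(fixedField σ) q₀) := by
        rw [Nat.card_congr e.toEquiv, ← hord]
        exact orderOf_dvd_natCard _
      exact h1.trans (Subgroup.card_quotient_dvd_card _)
    refine LocalBalance.core_eq_bot_of_subgroup hinj A hinn _ ι.range (by rintro _ ⟨y, rfl⟩; exact hιfix y)
      ?_ ?_ ?_
    · intro k hk l hl
      rw [hι, range_inclPSU] at hl ⊢
      exact LocalBalance.conj_mem_map_fixed (π := proj) (Φ := suField σ) proj_surjective
        (QuotientGroup.ker_mk' _).le (fun s => rfl) hk hl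
    · intro M hM hco
      let e := MonoidHom.ofInjective (inclPSU_injective hF hn hpo hq σ hσ)
      haveI : (M.map e.symm.toMonoidHom).Normal := hM.map _ e.symm.surjective
      exact (Subgroup.map_eq_bot_iff_of_injective _ e.symm.injective).1
        (psu_normal_coprime hF₀ hn hp (fun h => by rw [h] at hpo; exact absurd hpo (by decide)) hGU
          (M.map e.symm.toMonoidHom)
          (by rwa [Subgroup.card_map_of_injective (f := e.symm.toMonoidHom) e.symm.injective]))
    · intro a _ hco hfix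
      obtain ⟨τ, hτ, rfl⟩ := eq_fieldAut_of_fix (c' := c₀) hF hn hpo hq σ hσ a
        (PSUAut.exists_eq_conj_mul_fieldAut (p := c₀) hF hn h32 a)
        (fun e w c he hw hc hee hwe hcw => hfix _ (by
          obtain ⟨s₀, hs₀⟩ := exists_inclSU hF hn hpo hq σ hσ (s := eich e w c)
            (by rw [suFieldFun_eich hF σ hee hwe hcw, he, hw, hc])
          exact ⟨proj s₀, by rw [hι, inclPSU_proj, hs₀]⟩))
      have h1 : orderOf τ ∣ p := by
        rw [← hσ]; exact orderOf_dvd_of_pow_eq_one (PSpAut.pow_orderOf_of_fix σ hτ)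
      rw [orderOf_injective _ (PSUField.fieldAut_injective hF hn)] at hco
      rw [orderOf_eq_one_iff.1 (Nat.eq_one_of_dvd_coprimes hco dvd_rfl h1), map_one]
  · intro hco
    refine LocalBalance.core_ne_bot_of_coprime hinj A hinn _ ?_ hco
    haveI : CharP ↥(fixedField σ) c₀ :=
      (RingHom.charP_iff (fixedField σ).subtype (fixedField σ).subtype_injective c₀).2 inferInstance
    obtain ⟨e₀, he₀, he₀e⟩ := exists_isotropic_vec hF₀ hn
    obtain ⟨d₀, hd₀0, hd₀⟩ := exists_skew' hF₀
    refine ⟨ι (tp e₀ d₀), fun h => ?_, hιfix _⟩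
    exact tp_ne_one (p := c₀) hF₀ hn he₀ he₀e hd₀0 hd₀
      (inclPSU_injective hF hn hpo hq σ hσ (h.trans (map_one ι).symm))

/-! ### The prime two -/

theorem core_real_eq_bot (hn : 3 ≤ n) (hK : IsSimpleGroup K') {c₀ : ℕ} [Fact c₀.Prime] [CharP F c₀]
    (h2 : (2 : F) ≠ 0) (g : GUType n F q) (τ : F ≃+* F) (hτ : orderOf τ = 2)
    (hord : (conj g * fieldAut τ : MulAut K') ^ 2 = 1) (hne : orderOf (conj g * fieldAut τ : MulAut K') = 2)
    (A : Subgroup (MulAut K')) (hinn : ∀ k : K', MulAut.conj k ∈ A) :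
    Cfsg.pPrimeCore 2 ↥(A ⊓ Subgroup.centralizer {(conj g * fieldAut τ : MulAut K')}) = ⊥ := by
  classical
  have h32 := ne_three_two hF hn hK
  have hinj := conj_injective_psu hF hn hK
  have hbar : ∀ x, τ x = x ^ q := fun x => by
    have h1 := card_eq_pow τ
    rw [hτ, Nat.card_eq_fintype_card, hF] at h1
    rw [apply_eq_pow_of_orderOf_two τ hτ, Nat.pow_left_injective two_ne_zero h1.symm]
  -- the square of the semilinear map is a scalar
  have hττ : τ * τ = 1 := by rw [← sq, ← hτ, pow_orderOf_eq_one]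
  have hAA : ∃ c : Fˣ, c ^ (q + 1) = 1 ∧ ∀ v : V, semi g τ (semi g τ v) = (c : F) • v := by
    have h : (conj (g * guField τ g) : MulAut K') = 1 := by
      rw [sq, mul_assoc, ← mul_assoc (fieldAut τ), fieldAut_mul_conj, mul_assoc (conj (guField τ g)),
        ← map_mul fieldAut, hττ, map_one, mul_one, ← map_mul] at hord
      exact hord
    obtain ⟨c, hc⟩ := (PSUField.conj_eq_one_iff hF hn _).1 h
    refine ⟨c, pow_eq_one_of_scalar_mem hF (by omega) c (hc ▸ (g * guField τ g).2), fun v => ?_⟩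
    have hsv : sv τ (sv τ v) = v := funext fun i => DFunLike.congr_fun hττ (v i)
    have h1 : semi g τ (semi g τ v) = gv (g * guField τ g).1 v := by
      show gv g.1 (sv τ (gv g.1 (sv τ v))) = _
      rw [← gv_guField, hsv, Subgroup.coe_mul]
      simp [gv, Matrix.mulVec_mulVec]
    rw [h1, hc]
    funext i
    simp [gv, GeneralLinearGroup.coe_scalar, Matrix.mulVec_diagonal]
  obtain ⟨c, hc1, hAA⟩ := hAA
  have hcne : (c : F) ≠ 0 := c.ne_zero
  have hsemi0 : semi g τ (0 : V) = 0 := by
    have := semi_smul g τ 0 (0 : V)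
    rwa [smul_zero, map_zero, zero_smul] at this
  have hAinj : ∀ v : V, semi g τ v = 0 → v = 0 := fun v h => by
    have := hAA v
    rw [h, hsemi0] at this
    exact (smul_eq_zero.1 this.symm).resolve_left hcne
  have hcq : (c : F) ^ q = c := by
    have hv : (Pi.single ⟨0, by omega⟩ 1 : V) ≠ 0 := by simp
    have h1 := hAA (semi g τ (Pi.single ⟨0, by omega⟩ 1))
    rw [hAA (Pi.single ⟨0, by omega⟩ 1), semi_smul, hbar] at h1
    exact smul_left_injective F (fun h => hv (hAinj _ h)) h1
  have hc2 : (c : F) * c = 1 := by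
    have h := congrArg Units.val hc1
    rw [Units.val_pow_eq_pow_val, pow_succ, hcq, Units.val_one] at h
    exact h
  obtain ⟨μ, hμ⟩ := exists_norm hF (c : F) (by rw [Forms.qPowHom_apply, hcq])
  rw [Forms.qPowHom_apply] at hμ
  have hμ0 : μ ≠ 0 := fun h => hcne (by rw [← hμ, h, zero_mul])
  set J : V → V := fun v => μ • semi g τ v with hJdef
  have hJ : IsRealForm (q := q) J (c : F) := by
    refine ⟨fun u v => ?_, fun a v => ?_, fun v => ?_, fun u v => ?_, ?_⟩
    · simp only [hJdef, semi_add, smul_add]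
    · simp only [hJdef, semi_smul, hbar, smul_smul, mul_comm]
    · simp only [hJdef, semi_smul, hAA, smul_smul, hbar]
      rw [← mul_assoc, hμ, hc2, one_smul]
    · simp only [hJdef]
      rw [herm_smul_left, smul_right' hF, semi_form, hbar, ← mul_assoc, hμ]
    · exact mul_self_eq_one_iff.1 hc2
  have hcomm : ∀ {s : SUT}, s ∈ sj q J → ∀ v, act s (semi g τ v) = semi g τ (act s v) := fun {s} hs v => by
    have := hs v
    simp only [hJdef, act_smul] at this
    exact smul_right_injective V hμ0 this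
  set L := (sj (n := n) (F := F) q J).map proj with hL
  refine LocalBalance.core_eq_bot_of_subgroup hinj A hinn _ L ?_ ?_ ?_ ?_
  · rintro _ ⟨s, hs, rfl⟩
    rw [ind_proj]
    refine congrArg proj (act_ext fun v => ?_)
    obtain ⟨w, rfl⟩ := semi_surjective g τ v
    rw [act_ind, hcomm hs]
  · rintro k hk _ ⟨s, hs, rfl⟩
    obtain ⟨t, rfl⟩ := proj_surjective k
    rw [ind_proj] at hk
    obtain ⟨a, ha⟩ := exists_scalar_of_proj_eq hF hk.symm
    have hJt : ∀ u, J (act t u) = a • act t (J u) := fun u => by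
      simp only [hJdef]
      rw [← act_ind, ha, act_smul, smul_comm]
    refine ⟨t * s * t⁻¹, fun v => ?_, by rw [map_mul, map_mul, map_inv]⟩
    obtain ⟨u, rfl⟩ : ∃ u, act t u = v := ⟨_, act_inv_cancel t v⟩
    rw [act_mul, act_mul, act_mul, act_mul, act_inv_cancel', hJt, hJt, act_smul, act_inv_cancel', act_smul,
      act_smul, hs]
  · -- no normal subgroups of odd order
    intro M hM hco
    set S := sj (n := n) (F := F) q J
    let π : ↥S →* ↥L := (proj.comp S.subtype).codRestrict L fun s => ⟨s, s.2, rfl⟩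
    have hπ : Function.Surjective π := by rintro ⟨_, s, hs, rfl⟩; exact ⟨⟨s, hs⟩, rfl⟩
    have hsq : ∀ z : ↥S, π z = 1 → z ^ 2 = 1 ∧ z ∈ Subgroup.center ↥S := by
      intro z hz
      have hz' : proj (1 : SUT) = proj (z : SUT) := by
        rw [map_one]; exact (congrArg Subtype.val hz).symm
      obtain ⟨a, ha⟩ := exists_scalar_of_proj_eq hF hz'
      simp only [act_one] at ha
      obtain ⟨e, he⟩ := hJ.exists_iso hF hn h2
      have haq : a ^ q = a := by
        have h1 := z.2 e
        rw [ha, ha, hJ.map_smul, he.1] at h1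
        exact (smul_left_injective F he.2.1 h1).symm
      obtain ⟨f, hf, hb⟩ := hJ.exists_pair hF h2 he
      have haa : a * a = 1 := by
        have h1 : B (act (z : SUT) e) (act (z : SUT) f) = B e f := act_form _ _ _
        rw [ha, ha, herm_smul_left, smul_right' hF, haq, ← mul_assoc] at h1
        exact mul_right_cancel₀ hb (h1.trans (one_mul _).symm)
      refine ⟨Subtype.ext (act_ext fun v => ?_), Subgroup.mem_center_iff.2 fun s => Subtype.ext ?_⟩
      · rw [SubmonoidClass.coe_pow, sq, OneMemClass.coe_one, act_mul, ha, ha, smul_smul, haa, one_smul, act_one]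
      · exact Subgroup.mem_center_iff.1 (mem_center_of_scalar ha) _
    set P := M.comap π with hP
    let πP : ↥P →* ↥M := (π.comp P.subtype).codRestrict M fun x => x.2
    have hπP : Function.Surjective πP := fun y => by
      obtain ⟨x, hx⟩ := hπ y
      exact ⟨⟨x, show π x ∈ M from hx.symm ▸ y.2⟩, Subtype.ext hx⟩
    haveI : Fact (Nat.Prime 2) := ⟨Nat.prime_two⟩
    have hZ : ∀ z : ↥πP.ker, z ^ 2 = 1 := fun z => Subtype.ext (Subtype.ext
      (hsq (z.1.1) (congrArg Subtype.val (MonoidHom.mem_ker.1 z.2))).1)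
    have hZp : IsPGroup 2 ↥πP.ker := fun z => ⟨1, by rw [pow_one]; exact hZ z⟩
    obtain ⟨i, hi⟩ := IsPGroup.iff_card.1 hZp
    have hind : πP.ker.index = Nat.card ↥M := by
      rw [Subgroup.index_ker, MonoidHom.range_eq_top.2 hπP, Subgroup.card_top]
    obtain ⟨H, hH⟩ := Subgroup.exists_right_complement'_of_coprime (N := πP.ker)
      (by rw [hi, hind]; exact (hco.symm).pow_left i)
    have hcardH : Nat.card ↥H = Nat.card ↥M := by
      rw [← hind]; exact hH.symm.index_eq_card.symm
    have hodd : Odd (Nat.card ↥M) := Nat.coprime_two_right.1 hco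
    have hchar : ∀ x : ↥P, x ^ Nat.card ↥M = 1 ↔ x ∈ H := by
      intro x
      obtain ⟨⟨z, h⟩, rfl⟩ := hH.2 x
      show ((z : ↥P) * (h : ↥P)) ^ Nat.card ↥M = 1 ↔ (z : ↥P) * (h : ↥P) ∈ H
      have hzc : Commute (z : ↥P) (h : ↥P) := Subtype.ext (Subgroup.mem_center_iff.1
        (hsq (z.1.1) (congrArg Subtype.val (MonoidHom.mem_ker.1 z.2))).2 (h.1.1)).symm
      have hhd : (h : ↥P) ^ Nat.card ↥M = 1 := by
        rw [← hcardH, ← Subgroup.coe_pow, pow_card_eq_one', OneMemClass.coe_one]
      obtain ⟨j, hj⟩ := hodd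
      have hzd : (z : ↥P) ^ Nat.card ↥M = z := by
        have hz2 : (z : ↥P) ^ 2 = 1 := by rw [← Subgroup.coe_pow, hZ, OneMemClass.coe_one]
        rw [hj, pow_succ, pow_mul, hz2, one_pow, one_mul]
      rw [hzc.mul_pow, hhd, mul_one, hzd]
      constructor
      · intro hz; rw [hz, one_mul]; exact h.2
      · intro hzh
        have h2' := mul_mem hzh (inv_mem h.2)
        rw [mul_inv_cancel_right] at h2'
        exact Subgroup.mem_bot.1 (hH.disjoint.eq_bot.le ⟨z.2, h2'⟩)
    haveI : (H.map P.subtype).Normal := ⟨by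
      rintro _ ⟨x, hx, rfl⟩ s
      have hmem : s * (x : ↥S) * s⁻¹ ∈ P := by
        show π _ ∈ M
        rw [map_mul, map_mul, map_inv]
        exact hM.conj_mem _ x.2 _
      refine ⟨⟨_, hmem⟩, (hchar _).1 (Subtype.ext ?_), rfl⟩
      rw [SubmonoidClass.coe_pow, OneMemClass.coe_one, conj_pow]
      have := congrArg Subtype.val ((hchar x).2 hx)
      rw [SubmonoidClass.coe_pow, OneMemClass.coe_one] at this
      rw [this, mul_one, mul_inv_cancel]⟩
    have hbot := hJ.sj_normal_odd hF hn h2 (H.map P.subtype) (by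
      rw [Subgroup.card_map_of_injective P.subtype_injective, hcardH]
      exact hodd.not_two_dvd_nat)
    rw [Subgroup.map_eq_bot_iff_of_injective _ P.subtype_injective] at hbot
    rw [hbot, Subgroup.card_bot] at hcardH
    exact Subgroup.eq_bot_of_card_eq _ hcardH.symm
  · -- centralisers
    intro a _ hco hfix
    obtain ⟨g', τ', rfl⟩ := PSUAut.exists_eq_conj_mul_fieldAut (p := c₀) hF hn h32 a
    have hA : ∀ (e w : V) (d : F), hJ.Iso hF e → B w e = 0 → J w = (c : F) • w → d ^ q = (c : F) * d →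
        d + d ^ q + B w w = 0 →
        ∀ x, semi g' τ' (act (eich e w d : SUT) x) = act (eich e w d : SUT) (semi g' τ' x) := by
      intro e w d he hwe hw hdδ hd x
      have hmem := hJ.eich_mem_sj hF he.1 he.2.2 hwe hw hdδ hd
      have h := hfix _ ⟨_, hmem, rfl⟩
      rw [ind_proj, ind_eich hF g' τ' he.2.2 hwe hd] at h
      have heq := eich_eq_of_proj_eq (p := c₀) hF (by omega) (by rw [semi_form, he.2.2, map_zero])
        (by rw [semi_form, hwe, map_zero])
        (by rw [semi_form, ← map_pow, ← map_add, ← map_add, hd, map_zero]) he.2.2 hwe hd h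
      rw [← ind_eich hF g' τ' he.2.2 hwe hd] at heq
      conv_rhs => rw [← heq]
      rw [act_ind]
    obtain ⟨lam, ⟨rfl, hlam⟩ | ⟨hτ', hlam⟩⟩ := hJ.scalar_of_commute hF hn h2 g' τ' hA
    · rw [map_one, mul_one]
      refine conj_eq_one_of_scalar g' (t := lam) fun v => ?_
      exact hlam v
    · exfalso
      have hττ' : τ' = τ := RingEquiv.ext fun x => (hτ' x).trans (hbar x).symm
      subst hττ'
      have hgg : (conj g' : MulAut K') = conj g := by
        have h1 : (conj (g⁻¹ * g') : MulAut K') = 1 := by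
          refine conj_eq_one_of_scalar _ (t := lam * μ) fun v => ?_
          have h3 := hlam (sv τ'.symm v)
          simp only [hJdef, semi, sv_symm, smul_smul] at h3
          rw [Subgroup.coe_mul, InvMemClass.coe_inv]
          show gv _ v = _
          rw [gv, Units.val_mul, ← Matrix.mulVec_mulVec]
          show gv g.1⁻¹ (gv g'.1 v) = _
          rw [h3, gv, Matrix.mulVec_smul]
          show _ • gv g.1⁻¹ (gv g.1 v) = _
          rw [gv_inv_cancel']
        rwa [map_mul, map_inv, inv_mul_eq_one, eq_comm] at h1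
      rw [hgg, hne] at hco
      exact absurd hco (by decide)

/-- The criterion for `PSU_n(q)`. -/
theorem local_balance {r : ℕ} [Fact r.Prime] [CharP F r] (hn : 3 ≤ n) (hK : IsSimpleGroup K')
    (A : Subgroup (MulAut K')) (hinn : ∀ k : K', MulAut.conj k ∈ A) {p : ℕ} [Fact p.Prime] (hpr : p ≠ r)
    (β : MulAut K') (hord : orderOf β = p) (hnot : ¬ Cfsg.IsInnerDiagonalAutPSU β) :
    Cfsg.pPrimeCore p ↥(A ⊓ Subgroup.centralizer {β}) ≠ ⊥ ↔
      ((∃ γ φ : MulAut K', Cfsg.IsInnerDiagonalAutPSU γ ∧ (∃ σ : F ≃+* F, Cfsg.IsFieldAutPSUOf σ φ) ∧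
          β = φ.trans γ) ∧
        Nat.Coprime p (Nat.card ↥(MonoidHom.eqLocus β.toMonoidHom (MonoidHom.id K')))) := by
  have hp : p.Prime := Fact.out
  have h32 := ne_three_two hF hn hK
  obtain ⟨g, τ, hx⟩ := PSUAut.exists_eq_conj_mul_fieldAut (p := r) hF hn h32 β
  rw [and_iff_right (a := ∃ γ φ : MulAut K', Cfsg.IsInnerDiagonalAutPSU γ ∧
      (∃ σ : F ≃+* F, Cfsg.IsFieldAutPSUOf σ φ) ∧ β = φ.trans γ)
    ⟨conj g, fieldAut τ, (isInnerDiagonal_iff _).2 ⟨g, rfl⟩, ⟨τ, (isFieldAutOf_iff τ _).2 rfl⟩, hx⟩]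
  have hτ1 : τ ≠ 1 := fun h => hnot ((isInnerDiagonal_iff β).2 ⟨g, by rw [hx, h, map_one, mul_one]⟩)
  have hpow : (conj g * fieldAut τ : MulAut K') ^ p = 1 := by
    rw [← hx, ← hord, pow_orderOf_eq_one]
  have hτp : τ ^ p = 1 := by
    have h1 := hpow
    rw [PSUField.conj_mul_fieldAut_pow] at h1
    exact (eq_one_and_scalar_of_eq_one (p := r) hF hn _ _ h1).1
  have hτ : orderOf τ = p := orderOf_eq_prime hτp hτ1
  obtain ⟨f, hf⟩ : ∃ f, q = r ^ f := by
    obtain ⟨k, -, hk⟩ := FiniteField.card F r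
    obtain ⟨f, -, hf⟩ := (Nat.dvd_prime_pow Fact.out).1 (show q ∣ r ^ (k : ℕ) by
      rw [← hk, hF]; exact dvd_pow_self q two_ne_zero)
    exact ⟨f, hf⟩
  rcases hp.eq_two_or_odd' with rfl | hpo
  · have h2 : (2 : F) ≠ 0 := fun h2 => hpr ((Nat.prime_dvd_prime_iff_eq Fact.out Nat.prime_two).1
      ((CharP.cast_eq_zero_iff F r 2).1 (by exact_mod_cast h2))).symm
    have hcore := core_real_eq_bot (c₀ := r) hF hn hK h2 g τ hτ hpow (by rw [← hx, hord]) A hinn
    rw [← hx] at hcore
    refine iff_of_false (fun h => h hcore) fun hco => ?_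
    have heven : 2 ∣ Nat.card K' := by
      haveI := hK
      obtain ⟨e, he0, he⟩ := exists_isotropic_vec hF hn
      by_contra hodd
      have h := dvd_card_psu hF hn Nat.prime_two (by
        rw [← Classical.succ_mul_natCard_SU hF n (by omega)]
        refine Dvd.dvd.mul_right ?_ _
        have hr2 : ¬ 2 ∣ r := fun h => hpr ((Nat.prime_dvd_prime_iff_eq Nat.prime_two Fact.out).1 h)
        have : ¬ 2 ∣ q := fun h => hr2 (Nat.prime_two.dvd_of_dvd_pow (hf ▸ h))
        omega)
      exact hodd h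
    exact (Nat.prime_two.coprime_iff_not_dvd.1 hco) (LocalBalance.two_dvd_fixed heven (by rw [← hord, pow_orderOf_eq_one]))
  · obtain ⟨-, hq⟩ := PSUField.arith hf hF τ hτ hpo
    obtain ⟨k, hk⟩ := PSUField.field_order_imp_conj hF hn hpo hq τ hτ g hpow
    rw [← hx] at hk
    rw [hk, ne_eq, LocalBalance.core_conj, LocalBalance.natCard_fixed_conj]
    exact core_field_iff (c₀ := r) hF hn hK hp hpo hq τ hτ _ fun y => by
      show conj k * MulAut.conj y * (conj k)⁻¹ ∈ A
      rw [LocalBalance.mul_conj_inv]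
      exact hinn _

end Cfsg.Agent.Lib.PSUBalance
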