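import Cfsg.Agent.Lib.PSUAut.Transvection

/-!
# Real forms of a hermitian space

A semilinear involution `J` multiplying the hermitian form by `δ = ±1` and conjugating it. Its fixed
vectors carry a symmetric (`δ = 1`) or alternating (`δ = -1`) form over the field of order `q`; `sj J` is
the group of special unitary maps commuting with `J`.
-/

set_option autoImplicit false

namespace Cfsg.Agent.Lib.PSUBalance

open Matrix PSUAut

variable {F : Type*} [Field F] [Fintype F] {n q : ℕ} (hF : Fintype.card F = q ^ 2)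

local notation "V" => (Fin n → F)
local notation "SUT" => (SUType n F q)
local notation "B" => Cfsg.hermForm n F q

/-- The hypotheses on `J`. -/
structure IsRealForm (J : (Fin n → F) → (Fin n → F)) (δ : F) : Prop where
  map_add : ∀ u v, J (u + v) = J u + J v
  map_smul : ∀ (a : F) v, J (a • v) = a ^ q • J v
  invol : ∀ v, J (J v) = v
  form : ∀ u v, Cfsg.hermForm n F q (J u) (J v) = δ * Cfsg.hermForm n F q u v ^ q
  delta : δ = 1 ∨ δ = -1

/-- The special unitary maps commuting with `J`. -/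
noncomputable def sj (q : ℕ) (J : (Fin n → F) → (Fin n → F)) : Subgroup (SUType n F q) where
  carrier := {s | ∀ v, act s (J v) = J (act s v)}
  mul_mem' := fun {s t} hs ht v => by rw [act_mul, act_mul, ht, hs]
  one_mem' := fun v => by rw [act_one, act_one]
  inv_mem' := fun {s} hs v => by
    have h := hs (act s⁻¹ v)
    rw [act_inv_cancel] at h
    rw [← h, act_inv_cancel']

theorem act_smul (s : SUT) (a : F) (v : V) : act s (a • v) = a • act s v :=
  LinearEquiv.map_smul _ a v

theorem act_add (s : SUT) (u v : V) : act s (u + v) = act s u + act s v :=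
  LinearEquiv.map_add _ u v

theorem act_sub (s : SUT) (u v : V) : act s (u - v) = act s u - act s v :=
  map_sub _ u v

theorem mem_sj {J : V → V} {s : SUT} : s ∈ sj q J ↔ ∀ v, act s (J v) = J (act s v) := Iff.rfl

theorem herm_smul_left (a : F) (u v : V) : B (a • u) v = a * B u v := by
  simp [Cfsg.hermForm, Finset.mul_sum, mul_assoc]

namespace IsRealForm

variable {J : (Fin n → F) → (Fin n → F)} {δ : F} (hJ : IsRealForm (q := q) J δ)
include hF hJ

theorem map_zero : J 0 = 0 := by
  have := hJ.map_smul 0 0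
  rwa [zero_smul, zero_pow (q_ne_zero hF), zero_smul] at this

theorem map_neg (v : V) : J (-v) = -J v := by
  refine eq_neg_of_add_eq_zero_left ?_
  rw [← hJ.map_add, neg_add_cancel, hJ.map_zero hF]

theorem map_sub (u v : V) : J (u - v) = J u - J v := by
  rw [sub_eq_add_neg, hJ.map_add, hJ.map_neg hF, sub_eq_add_neg]

theorem delta_mul : δ * δ = 1 := by rcases hJ.delta with h | h <;> simp [h]

theorem delta_ne : δ ≠ 0 := fun h => by simpa [h] using hJ.delta_mul hF

theorem delta_pow : δ ^ q = δ := by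
  rcases hJ.delta with h | h
  · rw [h, one_pow]
  · rw [h, ← Forms.qPowHom_apply hF, _root_.map_neg, map_one]

theorem real_form {u v : V} (hu : J u = u) (hv : J v = v) : B u v ^ q = δ * B u v := by
  have h := hJ.form u v
  rw [hu, hv] at h
  rw [h, ← mul_assoc, hJ.delta_mul hF, one_mul, ← h]

theorem form_symm {u v : V} (hu : J u = u) (hv : J v = v) : B v u = δ * B u v := by
  rw [← (herm hF).symm, Forms.qPowHom_apply, hJ.real_form hF hu hv]

theorem self_zero_of_neg (h2 : (2 : F) ≠ 0) (hδ : δ = -1) {u : V} (hu : J u = u) : B u u = 0 := by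
  have h := hJ.form_symm hF hu hu
  rw [hδ] at h
  have : (2 : F) * B u u = 0 := by linear_combination h
  exact (mul_eq_zero.1 this).resolve_left h2

theorem real_form_one (hδ : δ = 1) {u v : V} (hu : J u = u) (hv : J v = v) : B u v ^ q = B u v := by
  rw [hJ.real_form hF hu hv, hδ, one_mul]

theorem real_smul {a : F} (ha : a ^ q = a) {v : V} (hv : J v = v) : J (a • v) = a • v := by
  rw [hJ.map_smul, ha, hv]

theorem real_add {u v : V} (hu : J u = u) (hv : J v = v) : J (u + v) = u + v := by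
  rw [hJ.map_add, hu, hv]

theorem real_sub {u v : V} (hu : J u = u) (hv : J v = v) : J (u - v) = u - v := by
  rw [hJ.map_sub hF, hu, hv]

/-- Every vector is a combination of two real ones. -/
theorem exists_real_parts (h2 : (2 : F) ≠ 0) (v : V) :
    ∃ (a b : V) (k l : F), J a = a ∧ J b = b ∧ v = k • a + l • b ∧
      a ∈ Submodule.span F {v, J v} ∧ b ∈ Submodule.span F {v, J v} := by
  obtain ⟨ξ, hξ0, hξ⟩ := exists_skew' hF
  have hξq : ξ ^ q = -ξ := eq_neg_of_add_eq_zero_right hξ
  refine ⟨v + J v, ξ • (v - J v), 2⁻¹, (2 * ξ)⁻¹, ?_, ?_, ?_, ?_, ?_⟩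
  · rw [hJ.map_add, hJ.invol, add_comm]
  · rw [hJ.map_smul, hJ.map_sub hF, hJ.invol, hξq, neg_smul, ← smul_neg, neg_sub]
  · rw [smul_smul]
    have e : (2 * ξ)⁻¹ * ξ = 2⁻¹ := by field_simp
    rw [e, ← smul_add, add_add_sub_cancel, ← two_smul F, smul_smul, inv_mul_cancel₀ h2, one_smul]
  · exact add_mem (Submodule.subset_span (by simp)) (Submodule.subset_span (by simp))
  · exact Submodule.smul_mem _ _ (sub_mem (Submodule.subset_span (by simp))
      (Submodule.subset_span (by simp)))

/-- Two semilinear conclusions about real vectors extend to all vectors. -/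
theorem eq_of_real (h2 : (2 : F) ≠ 0) {f g : V → V} {τ : F → F}
    (hfa : ∀ u v, f (u + v) = f u + f v) (hfs : ∀ (a : F) v, f (a • v) = τ a • f v)
    (hga : ∀ u v, g (u + v) = g u + g v) (hgs : ∀ (a : F) v, g (a • v) = τ a • g v)
    (h : ∀ v, J v = v → f v = g v) (v : V) : f v = g v := by
  obtain ⟨a, b, k, l, ha, hb, rfl, -, -⟩ := hJ.exists_real_parts hF h2 v
  rw [hfa, hga, hfs, hfs, hgs, hgs, h a ha, h b hb]

theorem eq_zero_of_orth (h2 : (2 : F) ≠ 0) {u : V} (h : ∀ y, J y = y → B u y = 0) : u = 0 := by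
  refine (herm hF).nondeg u fun w => ?_
  obtain ⟨a, b, k, l, ha, hb, rfl, -, -⟩ := hJ.exists_real_parts hF h2 w
  rw [(herm hF).add_right, (herm hF).smul_right, (herm hF).smul_right, h a ha, h b hb, mul_zero,
    mul_zero, add_zero]

/-- An isotropic real vector. -/
def Iso (_hF : Fintype.card F = q ^ 2) (_hJ : IsRealForm (q := q) J δ) (e : V) : Prop :=
  J e = e ∧ e ≠ 0 ∧ B e e = 0

theorem form_add_self {u v : V} (huv : B u v = B v u) : B (u + v) (u + v) = B u u + 2 * B u v + B v v := by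
  rw [(herm hF).add_left, (herm hF).add_right, (herm hF).add_right, huv]; ring

theorem exists_pair (h2 : (2 : F) ≠ 0) {e : V} (he : hJ.Iso hF e) :
    ∃ f : V, hJ.Iso hF f ∧ B e f ≠ 0 := by
  obtain ⟨hje, he0, hee⟩ := he
  obtain ⟨y, hy, hey⟩ : ∃ y, J y = y ∧ B e y ≠ 0 := by
    by_contra hne
    push Not at hne
    exact he0 (hJ.eq_zero_of_orth hF h2 hne)
  have hne' : ∀ f : V, B e f ≠ 0 → f ≠ 0 := fun f hf h0 => hf (by rw [h0, (herm hF).zero_right])
  rcases hJ.delta with hδ | hδ
  · set t : F := -(B y y) / (2 * B e y) with ht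
    have htq : t ^ q = t := by
      rw [ht, ← Forms.qPowHom_apply hF, map_div₀, _root_.map_neg, map_mul, map_ofNat,
        Forms.qPowHom_apply, Forms.qPowHom_apply, hJ.real_form_one hF hδ hy hy,
        hJ.real_form_one hF hδ hje hy]
    refine ⟨y + t • e, ⟨hJ.real_add hF hy (hJ.real_smul hF htq hje), ?_, ?_⟩, ?_⟩
    · exact hne' _ (by rw [(herm hF).add_right, smul_right' hF, hee, mul_zero, add_zero]; exact hey)
    · have hye : B y e = B e y := by rw [hJ.form_symm hF hje hy, hδ, one_mul]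
      rw [hJ.form_add_self hF (by rw [(herm hF).smul_left, smul_right' hF, htq, hye]), smul_right' hF,
        (herm hF).smul_left, smul_right' hF, hee, hye, htq, ht]
      field_simp
      ring
    · rw [(herm hF).add_right, smul_right' hF, hee, mul_zero, add_zero]; exact hey
  · exact ⟨y, ⟨hy, hne' y hey, hJ.self_zero_of_neg hF h2 hδ hy⟩, hey⟩

theorem ratio_real {x e f : V} (hx : J x = x) (he : J e = e) (hf : J f = f) :
    (B x f / B e f) ^ q = B x f / B e f := by
  rw [div_pow, hJ.real_form hF hx hf, hJ.real_form hF he hf, mul_div_mul_left _ _ (hJ.delta_ne hF)]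

/-- A real vector splits along a real pair. -/
theorem exists_split {e f : V} (he : hJ.Iso hF e) (hf : hJ.Iso hF f) (hb : B e f ≠ 0) {x : V}
    (hx : J x = x) : ∃ (s t : F) (w : V), s ^ q = s ∧ t ^ q = t ∧ J w = w ∧ B w e = 0 ∧ B w f = 0 ∧
      x = s • e + t • f + w := by
  have hfe : B f e ≠ 0 := fun h => hb (orth_symm (herm hF) h)
  refine ⟨B x f / B e f, B x e / B f e, x - (B x f / B e f) • e - (B x e / B f e) • f,
    hJ.ratio_real hF hx he.1 hf.1, hJ.ratio_real hF hx hf.1 he.1, ?_, ?_, ?_, by abel⟩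
  · exact hJ.real_sub hF (hJ.real_sub hF hx (hJ.real_smul hF (hJ.ratio_real hF hx he.1 hf.1) he.1))
      (hJ.real_smul hF (hJ.ratio_real hF hx hf.1 he.1) hf.1)
  · rw [(herm hF).sub_left, (herm hF).sub_left, (herm hF).smul_left, (herm hF).smul_left, he.2.2,
      div_mul_cancel₀ _ hfe, mul_zero, sub_zero, sub_self]
  · rw [(herm hF).sub_left, (herm hF).sub_left, (herm hF).smul_left, (herm hF).smul_left, hf.2.2,
      div_mul_cancel₀ _ hb, mul_zero, sub_zero, sub_self]

/-- A nonzero real vector orthogonal to two given real vectors. -/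
theorem exists_real_perp (hn : 3 ≤ n) (h2 : (2 : F) ≠ 0) {u v : V} (hu : J u = u) (hv : J v = v) :
    ∃ w : V, J w = w ∧ w ≠ 0 ∧ B w u = 0 ∧ B w v = 0 := by
  obtain ⟨x, hx0, hxu, hxv⟩ := exists_orth_pair hF hn u v
  obtain ⟨a, b, k, l, ha, hb, hxe, haS, hbS⟩ := hJ.exists_real_parts hF h2 x
  have hperp : ∀ y ∈ Submodule.span F ({x, J x} : Set V), B y u = 0 ∧ B y v = 0 := by
    intro y hy
    obtain ⟨c, d, rfl⟩ := Submodule.mem_span_pair.1 hy
    have hJu : B (J x) u = 0 := by
      rw [← hu, hJ.form, hxu, zero_pow (q_ne_zero hF), mul_zero]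
    have hJv : B (J x) v = 0 := by
      rw [← hv, hJ.form, hxv, zero_pow (q_ne_zero hF), mul_zero]
    simp [(herm hF).add_left, (herm hF).smul_left, hxu, hxv, hJu, hJv]
  by_cases ha0 : a = 0
  · refine ⟨b, hb, fun hb0 => hx0 (by rw [hxe, ha0, hb0, smul_zero, smul_zero, add_zero]), hperp b hbS⟩
  · exact ⟨a, ha, ha0, hperp a haS⟩

/-- For `δ = 1`: an anisotropic real vector orthogonal to a real pair. -/
theorem exists_aniso_perp (hn : 3 ≤ n) (h2 : (2 : F) ≠ 0) (hδ : δ = 1) {e f : V} (he : hJ.Iso hF e)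
    (hf : hJ.Iso hF f) (hb : B e f ≠ 0) :
    ∃ w : V, J w = w ∧ B w e = 0 ∧ B w f = 0 ∧ B w w ≠ 0 := by
  obtain ⟨w, hw, hw0, hwe, hwf⟩ := hJ.exists_real_perp hF hn h2 he.1 hf.1
  by_cases hww : B w w = 0
  swap
  · exact ⟨w, hw, hwe, hwf, hww⟩
  obtain ⟨y, hy, hwy⟩ : ∃ y, J y = y ∧ B w y ≠ 0 := by
    by_contra hne
    push Not at hne
    exact hw0 (hJ.eq_zero_of_orth hF h2 hne)
  obtain ⟨s, t, z, -, -, hz, hze, hzf, rfl⟩ := hJ.exists_split hF he hf hb hy
  rw [(herm hF).add_right, (herm hF).add_right, smul_right' hF, smul_right' hF, hwe, hwf, mul_zero,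
    mul_zero, zero_add, zero_add] at hwy
  by_cases hzz : B z z = 0
  swap
  · exact ⟨z, hz, hze, hzf, hzz⟩
  refine ⟨w + z, hJ.real_add hF hw hz, by rw [(herm hF).add_left, hwe, hze, add_zero],
    by rw [(herm hF).add_left, hwf, hzf, add_zero], ?_⟩
  rw [hJ.form_add_self hF (by rw [hJ.form_symm hF hw hz, hδ, one_mul]), hww, hzz, zero_add, add_zero]
  exact mul_ne_zero h2 hwy

/-- Real isotropic vectors exist. -/
theorem exists_iso (hn : 3 ≤ n) (h2 : (2 : F) ≠ 0) : ∃ e : V, hJ.Iso hF e := by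
  obtain ⟨x, hx, hx0, -, -⟩ := hJ.exists_real_perp hF hn h2 (hJ.map_zero hF) (hJ.map_zero hF)
  rcases hJ.delta with hδ | hδ
  swap
  · exact ⟨x, hx, hx0, hJ.self_zero_of_neg hF h2 hδ hx⟩
  by_cases hxx : B x x = 0
  · exact ⟨x, hx, hx0, hxx⟩
  obtain ⟨y, hy, hy0, hyx, -⟩ := hJ.exists_real_perp hF hn h2 hx (hJ.map_zero hF)
  by_cases hyy : B y y = 0
  · exact ⟨y, hy, hy0, hyy⟩
  obtain ⟨z, hz, hz0, hzx, hzy⟩ := hJ.exists_real_perp hF hn h2 hx hy
  by_cases hzz : B z z = 0
  · exact ⟨z, hz, hz0, hzz⟩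
  -- a ternary diagonal form over the field of order `q` has a zero
  let F₁ : Subfield F := (Forms.qPowHom hF).eqLocusField (RingHom.id F)
  haveI : Fintype ↥F₁ := Fintype.ofFinite _
  have hmem : ∀ {a : F}, a ^ q = a → a ∈ F₁ := fun {a} ha => by
    show Forms.qPowHom hF a = a
    rw [Forms.qPowHom_apply, ha]
  have hmem' : ∀ a : ↥F₁, (a : F) ^ q = a := fun a => by
    have := a.2
    rwa [← Forms.qPowHom_apply hF]
  let cx : ↥F₁ := ⟨B x x, hmem (hJ.real_form_one hF hδ hx hx)⟩
  let cy : ↥F₁ := ⟨B y y, hmem (hJ.real_form_one hF hδ hy hy)⟩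
  let cz : ↥F₁ := ⟨B z z, hmem (hJ.real_form_one hF hδ hz hz)⟩
  have hodd : Fintype.card ↥F₁ % 2 = 1 := by
    rcases Nat.mod_two_eq_zero_or_one (Fintype.card ↥F₁) with h | h
    · exfalso
      have h0 := ringChar.eq_iff.1 (FiniteField.even_card_iff_char_two.2 h)
      apply h2
      have : ((2 : ↥F₁) : F) = 0 := by
        rw [show (2 : ↥F₁) = 0 from (CharP.cast_eq_zero ↥F₁ 2 : ((2 : ℕ) : ↥F₁) = 0)]; rfl
      exact this
    · exact h
  obtain ⟨a, b, hab⟩ := FiniteField.exists_root_sum_quadratic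
    (f := Polynomial.C cx * Polynomial.X ^ 2) (g := Polynomial.C cy * Polynomial.X ^ 2 + Polynomial.C cz)
    (Polynomial.degree_C_mul_X_pow 2 (fun h => hxx (congrArg Subtype.val h)))
    (by
      rw [Polynomial.degree_add_C (by
        rw [Polynomial.degree_C_mul_X_pow 2 (fun h => hyy (congrArg Subtype.val h))]; norm_num)]
      exact Polynomial.degree_C_mul_X_pow 2 (fun h => hyy (congrArg Subtype.val h))) hodd
  simp only [Polynomial.eval_add, Polynomial.eval_mul, Polynomial.eval_C, Polynomial.eval_pow,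
    Polynomial.eval_X] at hab
  have hab' : B x x * (a : F) ^ 2 + (B y y * (b : F) ^ 2 + B z z) = 0 := by
    have := congrArg (fun t : ↥F₁ => (t : F)) hab
    simpa using this
  refine ⟨(a : F) • x + (b : F) • y + z,
    hJ.real_add hF (hJ.real_add hF (hJ.real_smul hF (hmem' a) hx) (hJ.real_smul hF (hmem' b) hy)) hz,
    fun h0 => hzz ?_, ?_⟩
  · have := congrArg (fun v => B v z) h0
    simpa [(herm hF).add_left, (herm hF).smul_left, (herm hF).zero_left, orth_symm (herm hF) hzx,
      orth_symm (herm hF) hzy] using this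
  · simp [(herm hF).add_left, (herm hF).add_right, (herm hF).smul_left, smul_right' hF, hzx, hzy, hyx,
      orth_symm (herm hF) hzx, orth_symm (herm hF) hzy, orth_symm (herm hF) hyx, hmem']
    linear_combination hab'

/-- Eichler elements commuting with `J`. -/
theorem eich_mem_sj {e w : V} {c : F} (he : J e = e) (hee : B e e = 0) (hwe : B w e = 0)
    (hw : J w = δ • w) (hcδ : c ^ q = δ * c) (hc : c + c ^ q + B w w = 0) :
    (eich e w c : SUT) ∈ sj q J := by
  intro x
  rw [act_eich hF hee hwe hc, act_eich hF hee hwe hc, hJ.map_add, hJ.map_add, hJ.map_smul, hJ.map_smul,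
    he, hw]
  have h1 : B (J x) e = δ * B x e ^ q := by
    conv_lhs => rw [← he]
    rw [hJ.form]
  have hw' : w = δ • J w := by rw [hw, smul_smul, hJ.delta_mul hF, one_smul]
  have h2 : B (J x) w = B x w ^ q := by
    conv_lhs => rw [hw', smul_right' hF, hJ.delta_pow hF, hJ.form, ← mul_assoc, hJ.delta_mul hF, one_mul]
  have h3 : (c * B x e - B x w) ^ q = c ^ q * B x e ^ q - B x w ^ q := by
    simp only [← Forms.qPowHom_apply hF, _root_.map_sub, map_mul]
  rw [h1, h2, h3, hcδ, smul_smul]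
  congr 2
  · rw [mul_comm]
  · ring

/-- The fixed vectors of `eich e w c` include `e`. -/
theorem act_eich_self {e w : V} {c : F} (hee : B e e = 0) (hwe : B w e = 0)
    (hc : c + c ^ q + B w w = 0) : act (eich e w c : SUT) e = e := by
  rw [act_eich hF hee hwe hc, hee, orth_symm (herm hF) hwe]
  simp

/-- Transitivity on the points not orthogonal to a given one. -/
theorem exists_move {e f f' : V} (he : hJ.Iso hF e) (hf : hJ.Iso hF f) (hf' : hJ.Iso hF f')
    (hb : B f e ≠ 0) (hb' : B f' e ≠ 0) :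
    ∃ s ∈ sj q J, ∃ a : F, a ≠ 0 ∧ act s e = e ∧ act s f = a • f' := by
  set a := B f e / B f' e with ha
  have ha0 : a ≠ 0 := div_ne_zero hb hb'
  have haq : a ^ q = a := hJ.ratio_real hF hf.1 hf'.1 he.1
  set g := a • f' with hg
  have hgJ : J g = g := hJ.real_smul hF haq hf'.1
  have hge : B g e = B f e := by rw [hg, (herm hF).smul_left, ha, div_mul_cancel₀ _ hb']
  have hgg : B g g = 0 := by rw [hg, (herm hF).smul_left, smul_right' hF, hf'.2.2, mul_zero, mul_zero]
  set b := B f e with hb_def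
  have hbq : b ^ q = δ * b := hJ.real_form hF hf.1 he.1
  have hδ := hJ.delta_mul hF
  have hδ0 := hJ.delta_ne hF
  set w := b⁻¹ • (g - f) with hw
  set c := B f g / (b * b ^ q) with hc
  have hwe : B w e = 0 := by rw [hw, (herm hF).smul_left, (herm hF).sub_left, hge, sub_self, mul_zero]
  have hwJ : J w = δ • w := by
    rw [hw, hJ.map_smul, hJ.real_sub hF hgJ hf.1, smul_smul, inv_pow, hbq, _root_.mul_inv_rev,
      show δ⁻¹ = δ from inv_eq_of_mul_eq_one_right hδ, mul_comm]
  have hbb : (b * b ^ q) ^ q = b * b ^ q := by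
    rw [mul_pow, hbq, mul_pow, hJ.delta_pow hF, hbq]
    linear_combination (δ * b ^ 2) * hδ
  have hcδ : c ^ q = δ * c := by
    rw [hc, div_pow, hbb, hJ.real_form hF hf.1 hgJ, mul_div_assoc]
  have hww : B w w = -(B g f + B f g) / (b * b ^ q) := by
    rw [hw, (herm hF).smul_left, smul_right' hF, (herm hF).sub_left, (herm hF).sub_right,
      (herm hF).sub_right, hgg, hf.2.2, inv_pow]
    field_simp
    ring
  have hfill : c + c ^ q + B w w = 0 := by
    have hfg : B f g ^ q = B g f := by rw [← Forms.qPowHom_apply hF, (herm hF).symm]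
    rw [hww, hc, div_pow, hbb, hfg]
    ring
  refine ⟨eich e w c, hJ.eich_mem_sj hF he.1 he.2.2 hwe hwJ hcδ hfill, a, ha0,
    hJ.act_eich_self hF he.2.2 hwe hfill, ?_⟩
  rw [act_eich hF he.2.2 hwe hfill, ← hg]
  have hfw : B f w = B f g / b ^ q := by
    rw [hw, smul_right' hF, (herm hF).sub_right, hf.2.2, sub_zero, inv_pow, inv_mul_eq_div]
  have h0 : c * b - B f w = 0 := by
    rw [hfw, hc, sub_eq_zero]
    field_simp
  rw [← hb_def, h0, zero_smul, add_zero, hw, smul_smul, mul_inv_cancel₀ hb, one_smul, add_sub_cancel]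

end IsRealForm

end Cfsg.Agent.Lib.PSUBalance
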